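import Groth.Agent.SchFinLib.Degree0

/-!
Restriction maps of a schematic finite space are flat epimorphisms; pairs and their classes.
-/

set_option autoImplicit false
set_option backward.isDefEq.respectTransparency false

open TensorProduct

namespace Groth.Agent.SchFinLib

open SchFin

universe u

variable {X : RSpace.{u}}

lemma wedge_id (a b : X.pt) : (SchFin.Hom.id X).wedge a b = X.up a ∩ X.up b := rfl

lemma exists_toSect_eq_wedge {x y : X.pt} (h : x ≤ y) (z : X.sectRing ((SchFin.Hom.id X).wedge x y)) :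
    ∃ b : X.ring y, ∀ (q : X.pt) (hq : q ∈ (SchFin.Hom.id X).wedge x y), z.1 ⟨q, hq⟩ = X.res hq.2 b := by
  refine ⟨z.1 ⟨y, h, le_rfl⟩, fun q hq => ?_⟩
  exact (z.2 ⟨y, h, le_rfl⟩ ⟨q, hq⟩ hq.2).symm

/-- `a ⊗ b ↦ a|·b|` on sections over the intersection of two minimal open sets. -/
noncomputable def interMap {s a b : X.pt} (ha : s ≤ a) (hb : s ≤ b) :
    letI := (X.res ha).toAlgebra; letI := (X.res hb).toAlgebra
    X.ring a ⊗[X.ring s] X.ring b →+* X.sectRing (X.up a ∩ X.up b) :=
  letI := (X.res ha).toAlgebra; letI := (X.res hb).toAlgebra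
  letI : Algebra (X.ring s) (X.sectRing (X.up a ∩ X.up b)) :=
    (X.resSect s (X.up a ∩ X.up b) (fun _ hq => ha.trans hq.1)).toAlgebra
  (Algebra.TensorProduct.lift
    ({ X.resSect a (X.up a ∩ X.up b) Set.inter_subset_left with
        commutes' := fun r => Subtype.ext (funext fun q => X.res_comp _ _ r) } : X.ring a →ₐ[X.ring s] _)
    ({ X.resSect b (X.up a ∩ X.up b) Set.inter_subset_right with
        commutes' := fun r => Subtype.ext (funext fun q => X.res_comp _ _ r) } : X.ring b →ₐ[X.ring s] _)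
    (fun _ _ => Commute.all _ _)).toRingHom

lemma interMap_tmul {s a b : X.pt} (ha : s ≤ a) (hb : s ≤ b) (u : X.ring a) (v : X.ring b) :
    letI := (X.res ha).toAlgebra; letI := (X.res hb).toAlgebra
    ∀ q, (interMap ha hb (u ⊗ₜ[X.ring s] v)).1 q = X.res q.2.1 u * X.res q.2.2 v := fun _ => rfl

/-- The degree zero schematic condition: sections over an intersection are a tensor product. -/
theorem interMap_bijective (hX : X.IsSchematic) {s a b : X.pt} (ha : s ≤ a) (hb : s ≤ b) :
    Function.Bijective (interMap ha hb) := by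
  letI := (X.res ha).toAlgebra
  letI := (X.res hb).toAlgebra
  let Φ := Coef.ofLE s ((SchFin.Hom.id X).wedge s b) ((SchFin.Hom.id X).wedge_subset_up s b)
  let σ := (SchFin.Hom.id X).subSrc ha b
  have hbc := (isBCAlong_zero_iff σ).mp (hX.2.2 0 s a ha b b le_rfl).1
  letI : Algebra (X.ring s) (X.sectRing ((SchFin.Hom.id X).wedge s b)) := (toSect Φ).toAlgebra
  let ι : X.ring b →ₗ[X.ring s] X.sectRing ((SchFin.Hom.id X).wedge s b) :=
    { toFun := X.resSect b _ (fun _ hq => hq.2)
      map_add' := map_add _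
      map_smul' := fun r v => by
        change X.resSect b _ _ (X.res hb r * v) = toSect Φ r * X.resSect b _ _ v
        rw [map_mul]
        congr 1
        exact Subtype.ext (funext fun q => X.res_comp _ _ r) }
  have hι : Function.Bijective ι := by
    refine ⟨fun v v' h => ?_, fun z => ?_⟩
    · have h' := congrArg (fun z : X.sectRing ((SchFin.Hom.id X).wedge s b) => z.1 ⟨b, hb, le_rfl⟩) h
      change X.res _ v = X.res _ v' at h'
      rwa [X.res_self, X.res_self] at h'
    · obtain ⟨v, hv⟩ := exists_toSect_eq_wedge hb z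
      exact ⟨v, Subtype.ext (funext fun q => (hv q.1 q.2).symm)⟩
  let e := LinearEquiv.ofBijective ι hι
  have key : (interMap ha hb : _ → _) = bcMap σ ∘ LinearEquiv.lTensor (X.ring a) e := by
    funext w
    induction w using TensorProduct.induction_on with
    | zero => simp
    | tmul u v => rfl
    | add x y hx hy => simp only [Function.comp_apply, map_add] at hx hy ⊢; rw [hx, hy]
  rw [key]
  exact hbc.comp (LinearEquiv.lTensor (X.ring a) e).bijective

/-- Restriction maps are epimorphisms. -/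
theorem isEpi_res (hX : X.IsSchematic) {x y : X.pt} (h : x ≤ y) :
    letI := (X.res h).toAlgebra; Algebra.IsEpi (X.ring x) (X.ring y) := by
  letI := (X.res h).toAlgebra
  rw [Algebra.isEpi_iff_forall_one_tmul_eq]
  intro v
  refine (interMap_bijective hX h h).1 (Subtype.ext (funext fun q => ?_))
  simp [interMap_tmul]

theorem ringHom_ext (hX : X.IsSchematic) {x y : X.pt} (h : x ≤ y) {T : Type*} [CommRing T]
    (g₁ g₂ : X.ring y →+* T) (hg : g₁.comp (X.res h) = g₂.comp (X.res h)) : g₁ = g₂ := by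
  letI := (X.res h).toAlgebra
  letI : Algebra (X.ring x) T := (g₁.comp (X.res h)).toAlgebra
  haveI := isEpi_res hX h
  let a₁ : X.ring y →ₐ[X.ring x] T := { g₁ with commutes' := fun _ => rfl }
  let a₂ : X.ring y →ₐ[X.ring x] T :=
    { g₂ with commutes' := fun r => (congrArg (fun φ : X.ring x →+* T => φ r) hg).symm }
  ext v
  have h1 := congrArg (Algebra.TensorProduct.lift a₁ a₂ (fun _ _ => Commute.all _ _))
    ((Algebra.isEpi_iff_forall_one_tmul_eq (X.ring x) (X.ring y)).mp inferInstance v)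
  simp only [Algebra.TensorProduct.lift_tmul, map_one, one_mul, mul_one] at h1
  exact h1.symm

theorem flat_res (hX : X.IsSchematic) {x y : X.pt} (h : x ≤ y) : (X.res h).Flat := hX.1.2 x y h

/-- A faithfully flat epimorphism is bijective. -/
theorem bijective_of_faithfullyFlat_isEpi {A B : Type*} [CommRing A] [CommRing B] [Algebra A B]
    [Module.FaithfullyFlat A B] [Algebra.IsEpi A B] : Function.Bijective (algebraMap A B) := by
  refine ⟨FaithfulSMul.algebraMap_injective A B, ?_⟩
  have h : Function.Surjective ((Algebra.linearMap A B).lTensor B) := fun w => by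
    induction w using TensorProduct.induction_on with
    | zero => exact ⟨0, map_zero _⟩
    | tmul u v =>
      refine ⟨(u * v) ⊗ₜ 1, ?_⟩
      rw [LinearMap.lTensor_tmul, Algebra.linearMap_apply, map_one]
      have h1 := (Algebra.isEpi_iff_forall_one_tmul_eq A B).mp inferInstance v
      calc (u * v) ⊗ₜ[A] (1 : B) = (u ⊗ₜ[A] (1 : B)) * (v ⊗ₜ[A] (1 : B)) := by simp
        _ = (u ⊗ₜ[A] (1 : B)) * ((1 : B) ⊗ₜ[A] v) := by rw [h1]
        _ = u ⊗ₜ[A] v := by simp
    | add a b ha hb =>
      obtain ⟨a', rfl⟩ := ha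
      obtain ⟨b', rfl⟩ := hb
      exact ⟨a' + b', map_add _ _ _⟩
  exact (Module.FaithfullyFlat.lTensor_surjective_iff_surjective A B _).mp h

theorem bijective_localRingHom (hX : X.IsSchematic) {x y : X.pt} (h : x ≤ y) (P : Ideal (X.ring y))
    [P.IsPrime] :
    Function.Bijective (Localization.localRingHom (P.comap (X.res h)) P (X.res h) rfl) := by
  set Q := P.comap (X.res h)
  let f := Localization.localRingHom Q P (X.res h) rfl
  have hflat : f.Flat := (flat_res hX h).localRingHom P Q rfl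
  letI := f.toAlgebra
  haveI : IsLocalHom (algebraMap (Localization.AtPrime Q) (Localization.AtPrime P)) :=
    Localization.isLocalHom_localRingHom Q P (X.res h) rfl
  haveI : Module.Flat (Localization.AtPrime Q) (Localization.AtPrime P) := hflat
  haveI : Module.FaithfullyFlat (Localization.AtPrime Q) (Localization.AtPrime P) :=
    Module.FaithfullyFlat.of_flat_of_isLocalHom
  haveI : Algebra.IsEpi (Localization.AtPrime Q) (Localization.AtPrime P) := by
    rw [Algebra.isEpi_iff_forall_one_tmul_eq]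
    intro t
    let i₁ : Localization.AtPrime P →ₐ[Localization.AtPrime Q]
        Localization.AtPrime P ⊗[Localization.AtPrime Q] Localization.AtPrime P :=
      Algebra.TensorProduct.includeLeft
    let i₂ : Localization.AtPrime P →ₐ[Localization.AtPrime Q]
        Localization.AtPrime P ⊗[Localization.AtPrime Q] Localization.AtPrime P :=
      Algebra.TensorProduct.includeRight
    have key : i₂.toRingHom = i₁.toRingHom := by
      refine IsLocalization.ringHom_ext P.primeCompl (ringHom_ext hX h _ _ (RingHom.ext fun r => ?_))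
      show i₂ (algebraMap (X.ring y) _ (X.res h r)) = i₁ (algebraMap (X.ring y) _ (X.res h r))
      rw [← Localization.localRingHom_to_map Q P (X.res h) rfl r]
      exact (i₂.commutes _).trans (i₁.commutes _).symm
    exact RingHom.congr_fun key t
  exact bijective_of_faithfullyFlat_isEpi

theorem bijective_κMap (hX : X.IsSchematic) (a b : X.Pair) (h : a.1 ≤ b.1)
    (hp : PrimeSpectrum.comap (X.res h) b.2 = a.2) :
    Function.Bijective (RSpace.Pair.κMap a b h hp) := by
  refine ⟨RingHom.injective _, ?_⟩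
  obtain ⟨x, P⟩ := a
  obtain ⟨y, Q⟩ := b
  change x ≤ y at h
  change PrimeSpectrum.comap (X.res h) Q = P at hp
  subst hp
  intro z
  obtain ⟨t, rfl⟩ := IsLocalRing.residue_surjective z
  obtain ⟨w, rfl⟩ := (bijective_localRingHom hX h Q.asIdeal).2 t
  exact ⟨IsLocalRing.residue _ w, rfl⟩

lemma nontrivial_tensor_fields (K L M : Type*) [Field K] [Field L] [Field M] [Algebra K L] [Algebra K M] :
    Nontrivial (L ⊗[K] M) := inferInstance

/-- Two maps to a field agreeing on the base give a prime of the tensor product. -/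
theorem exists_prime_of_homs {A B C K : Type*} [CommRing A] [CommRing B] [CommRing C] [Algebra A B] [Algebra A C]
    [CommRing K] [IsDomain K] (fB : B →+* K) (fC : C →+* K)
    (hcomm : fB.comp (algebraMap A B) = fC.comp (algebraMap A C)) :
    ∃ t : PrimeSpectrum (B ⊗[A] C),
      PrimeSpectrum.comap Algebra.TensorProduct.includeLeftRingHom t = ⟨RingHom.ker fB, RingHom.ker_isPrime _⟩ ∧
      PrimeSpectrum.comap (Algebra.TensorProduct.includeRight (R := A) (A := B) (B := C)).toRingHom t =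
        ⟨RingHom.ker fC, RingHom.ker_isPrime _⟩ := by
  letI : Algebra A K := (fB.comp (algebraMap A B)).toAlgebra
  let gB : B →ₐ[A] K := { fB with commutes' := fun _ => rfl }
  let gC : C →ₐ[A] K := { fC with commutes' := fun a => (RingHom.congr_fun hcomm a).symm }
  let Φ := Algebra.TensorProduct.lift gB gC (fun _ _ => Commute.all _ _)
  refine ⟨⟨RingHom.ker Φ.toRingHom, RingHom.ker_isPrime _⟩, PrimeSpectrum.ext (Ideal.ext fun b => ?_),
    PrimeSpectrum.ext (Ideal.ext fun c => ?_)⟩
  · show Φ (b ⊗ₜ 1) = 0 ↔ gB b = 0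
    simp [Φ]
  · show Φ (1 ⊗ₜ c) = 0 ↔ gC c = 0
    simp [Φ]

/-- Two primes over a common prime come from a prime of the tensor product. -/
theorem exists_prime_tensor {A B C : Type*} [CommRing A] [CommRing B] [CommRing C] [Algebra A B] [Algebra A C]
    (P : PrimeSpectrum B) (Q : PrimeSpectrum C)
    (h : PrimeSpectrum.comap (algebraMap A B) P = PrimeSpectrum.comap (algebraMap A C) Q) :
    ∃ t : PrimeSpectrum (B ⊗[A] C),
      PrimeSpectrum.comap Algebra.TensorProduct.includeLeftRingHom t = P ∧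
      PrimeSpectrum.comap (Algebra.TensorProduct.includeRight (R := A) (A := B) (B := C)).toRingHom t = Q := by
  set p := P.asIdeal.comap (algebraMap A B)
  have hp : p = Q.asIdeal.comap (algebraMap A C) := congrArg PrimeSpectrum.asIdeal h
  let iB : p.ResidueField →+* P.asIdeal.ResidueField := Ideal.ResidueField.map p P.asIdeal (algebraMap A B) rfl
  let iC : p.ResidueField →+* Q.asIdeal.ResidueField := Ideal.ResidueField.map p Q.asIdeal (algebraMap A C) hp
  letI := iB.toAlgebra
  letI := iC.toAlgebra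
  haveI := nontrivial_tensor_fields p.ResidueField P.asIdeal.ResidueField Q.asIdeal.ResidueField
  obtain ⟨m, hm⟩ := Ideal.exists_maximal (P.asIdeal.ResidueField ⊗[p.ResidueField] Q.asIdeal.ResidueField)
  letI := Ideal.Quotient.field m
  let fB : B →+* (P.asIdeal.ResidueField ⊗[p.ResidueField] Q.asIdeal.ResidueField) ⧸ m :=
    ((Ideal.Quotient.mk m).comp Algebra.TensorProduct.includeLeftRingHom).comp (algebraMap B P.asIdeal.ResidueField)
  let fC : C →+* (P.asIdeal.ResidueField ⊗[p.ResidueField] Q.asIdeal.ResidueField) ⧸ m :=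
    ((Ideal.Quotient.mk m).comp (Algebra.TensorProduct.includeRight
      (R := p.ResidueField) (A := P.asIdeal.ResidueField) (B := Q.asIdeal.ResidueField)).toRingHom).comp
        (algebraMap C Q.asIdeal.ResidueField)
  have hcomm : fB.comp (algebraMap A B) = fC.comp (algebraMap A C) := by
    ext a
    show Ideal.Quotient.mk m ((algebraMap B P.asIdeal.ResidueField (algebraMap A B a)) ⊗ₜ 1) =
      Ideal.Quotient.mk m (1 ⊗ₜ (algebraMap C Q.asIdeal.ResidueField (algebraMap A C a)))
    congr 1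
    have e1 : iB (algebraMap A p.ResidueField a) = algebraMap B P.asIdeal.ResidueField (algebraMap A B a) := by
      exact Ideal.ResidueField.map_algebraMap ..
    have e2 : iC (algebraMap A p.ResidueField a) = algebraMap C Q.asIdeal.ResidueField (algebraMap A C a) := by
      exact Ideal.ResidueField.map_algebraMap ..
    rw [← e1, ← e2]
    exact (Algebra.TensorProduct.includeLeft (R := p.ResidueField) (S := p.ResidueField)
      (A := P.asIdeal.ResidueField) (B := Q.asIdeal.ResidueField)).commutes _ |>.trans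
      ((Algebra.TensorProduct.includeRight (R := p.ResidueField) (A := P.asIdeal.ResidueField)
        (B := Q.asIdeal.ResidueField)).commutes _).symm
  obtain ⟨t, h1, h2⟩ := exists_prime_of_homs fB fC hcomm
  refine ⟨t, h1.trans (PrimeSpectrum.ext (Ideal.ext fun b => ?_)), h2.trans (PrimeSpectrum.ext (Ideal.ext fun c => ?_))⟩
  · show ((Ideal.Quotient.mk m).comp Algebra.TensorProduct.includeLeftRingHom)
      (algebraMap B P.asIdeal.ResidueField b) = 0 ↔ _
    rw [map_eq_zero, Ideal.algebraMap_residueField_eq_zero]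
  · show ((Ideal.Quotient.mk m).comp (Algebra.TensorProduct.includeRight
      (R := p.ResidueField) (A := P.asIdeal.ResidueField) (B := Q.asIdeal.ResidueField)).toRingHom)
      (algebraMap C Q.asIdeal.ResidueField c) = 0 ↔ _
    rw [map_eq_zero, Ideal.algebraMap_residueField_eq_zero]

/-- Pairs with the same image below are related. -/
theorem pairRel_of_comap_eq (hX : X.IsSchematic)
    (hff : ∀ s a b : X.pt, s ≤ a → s ≤ b → (X.up a ∩ X.up b).Nonempty →
      Module.FaithfullyFlat (X.sectRing (X.up a ∩ X.up b)) ((q : ↥(X.up a ∩ X.up b)) → X.ring q.1))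
    {s x y : X.pt} (hx : s ≤ x) (hy : s ≤ y) (P : PrimeSpectrum (X.ring x)) (Q : PrimeSpectrum (X.ring y))
    (hPQ : PrimeSpectrum.comap (X.res hx) P = PrimeSpectrum.comap (X.res hy) Q) :
    X.PairRel ⟨x, P⟩ ⟨y, Q⟩ := by
  letI := (X.res hx).toAlgebra
  letI := (X.res hy).toAlgebra
  obtain ⟨t, hP, hQ⟩ := exists_prime_tensor (A := X.ring s) P Q hPQ
  let U := X.up x ∩ X.up y
  let e := RingEquiv.ofBijective _ (interMap_bijective hX hx hy)
  let t' : PrimeSpectrum (X.sectRing U) := PrimeSpectrum.comap e.symm.toRingHom t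
  have hne : U.Nonempty := by
    by_contra hU
    haveI : Subsingleton (X.sectRing U) :=
      ⟨fun a b => Subtype.ext (funext fun q => absurd ⟨q.1, q.2⟩ hU)⟩
    exact t'.2.ne_top (Subsingleton.elim _ _)
  haveI := hff s x y hx hy hne
  haveI : Finite U := Subtype.finite
  obtain ⟨p', hp'⟩ := PrimeSpectrum.comap_surjective_of_faithfullyFlat
    (A := X.sectRing U) (B := (q : U) → X.ring q.1) t'
  obtain ⟨q, r, hr⟩ := PrimeSpectrum.exists_comap_evalRingHom_eq p'
  subst hr
  have h1 : ∀ u : X.ring x, (u ∈ P.asIdeal ↔ e (u ⊗ₜ 1) ∈ t'.asIdeal) := by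
    intro u
    show _ ↔ e.symm (e (u ⊗ₜ 1)) ∈ t.asIdeal
    rw [e.symm_apply_apply]
    rw [← hP]
    rfl
  have h2 : ∀ v : X.ring y, (v ∈ Q.asIdeal ↔ e (1 ⊗ₜ v) ∈ t'.asIdeal) := by
    intro v
    show _ ↔ e.symm (e (1 ⊗ₜ v)) ∈ t.asIdeal
    rw [e.symm_apply_apply]
    rw [← hQ]
    rfl
  refine ⟨q.1, q.2.1, q.2.2, r, ?_, ?_⟩
  · refine PrimeSpectrum.ext (Ideal.ext fun u => ?_)
    rw [h1 u, ← hp']
    show X.res q.2.1 u ∈ r.asIdeal ↔ (interMap hx hy (u ⊗ₜ 1)).1 q ∈ r.asIdeal
    rw [interMap_tmul, map_one, mul_one]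
  · refine PrimeSpectrum.ext (Ideal.ext fun v => ?_)
    rw [h2 v, ← hp']
    show X.res q.2.2 v ∈ r.asIdeal ↔ (interMap hx hy (1 ⊗ₜ v)).1 q ∈ r.asIdeal
    rw [interMap_tmul, map_one, one_mul]

lemma comap_res_self {a : X.pt} (r : PrimeSpectrum (X.ring a)) (h : a ≤ a) :
    PrimeSpectrum.comap (X.res h) r = r := by
  refine PrimeSpectrum.ext (Ideal.ext fun u => ?_)
  show X.res h u ∈ r.asIdeal ↔ _
  rw [X.res_self]

lemma comap_res_res {a b c : X.pt} (h₁ : a ≤ b) (h₂ : b ≤ c) (r : PrimeSpectrum (X.ring c)) :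
    PrimeSpectrum.comap (X.res (h₁.trans h₂)) r = PrimeSpectrum.comap (X.res h₁) (PrimeSpectrum.comap (X.res h₂) r) := by
  refine PrimeSpectrum.ext (Ideal.ext fun u => ?_)
  show X.res _ u ∈ r.asIdeal ↔ X.res h₂ (X.res h₁ u) ∈ r.asIdeal
  rw [X.res_comp]

theorem equivalence_pairRel (hX : X.IsSchematic)
    (hff : ∀ s a b : X.pt, s ≤ a → s ≤ b → (X.up a ∩ X.up b).Nonempty →
      Module.FaithfullyFlat (X.sectRing (X.up a ∩ X.up b)) ((q : ↥(X.up a ∩ X.up b)) → X.ring q.1)) :
    Equivalence X.PairRel where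
  refl a := ⟨a.1, le_rfl, le_rfl, a.2, comap_res_self _ _, comap_res_self _ _⟩
  symm := fun ⟨z, hx, hy, r, e1, e2⟩ => ⟨z, hy, hx, r, e2, e1⟩
  trans := by
    rintro a b c ⟨z₁, hx₁, hy₁, r₁, e1, e2⟩ ⟨z₂, hy₂, hw₂, r₂, e3, e4⟩
    obtain ⟨z, h1, h2, r, f1, f2⟩ := pairRel_of_comap_eq hX hff hy₁ hy₂ r₁ r₂ (e2.trans e3.symm)
    refine ⟨z, hx₁.trans h1, hw₂.trans h2, r, ?_, ?_⟩
    · rw [comap_res_res hx₁ h1, f1, e1]
    · rw [comap_res_res hw₂ h2, f2, e4]

theorem existsUnique_maximal (hX : X.IsSchematic)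
    (hff : ∀ s a b : X.pt, s ≤ a → s ≤ b → (X.up a ∩ X.up b).Nonempty →
      Module.FaithfullyFlat (X.sectRing (X.up a ∩ X.up b)) ((q : ↥(X.up a ∩ X.up b)) → X.ring q.1))
    (c : X.SchPt) :
    ∃! a : X.Pair, Quot.mk X.PairRel a = c ∧ ∀ b : X.Pair, Quot.mk X.PairRel b = c → b.1 ≤ a.1 := by
  have heq := equivalence_pairRel hX hff
  let S : Set X.pt := {p | ∃ P, Quot.mk X.PairRel ⟨p, P⟩ = c}
  obtain ⟨⟨p₀, P₀⟩, hP₀⟩ := Quot.exists_rep c
  obtain ⟨p, hp⟩ := (Set.toFinite S).exists_maximal ⟨p₀, P₀, hP₀⟩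
  obtain ⟨P, hP⟩ := hp.1
  have hle : ∀ b : X.Pair, Quot.mk X.PairRel b = c → b.1 ≤ p := by
    intro b hb
    obtain ⟨z, hxz, hyz, r, e1, e2⟩ := (heq.quot_mk_eq_iff _ _).mp (hP.trans hb.symm)
    have hz : z ∈ S := ⟨r, by
      rw [← hP]
      exact Quot.sound ⟨z, le_rfl, hxz, r, comap_res_self _ _, e1⟩⟩
    exact hyz.trans (hp.2 hz hxz)
  refine ⟨⟨p, P⟩, ⟨hP, hle⟩, ?_⟩
  rintro ⟨p', P'⟩ ⟨hP', hle'⟩
  obtain rfl : p = p' := le_antisymm (hle' ⟨p, P⟩ hP) (hle ⟨p', P'⟩ hP')
  obtain ⟨z, hxz, hyz, r, e1, e2⟩ := (heq.quot_mk_eq_iff _ _).mp (hP.trans hP'.symm)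
  exact congrArg (Sigma.mk p) (e2.symm.trans e1)

end Groth.Agent.SchFinLib
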