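import Groth.Agent.SchFinLib.Degree0

/-!
Connectedness of finite ringed posets and maps of trivial covers.
-/

set_option autoImplicit false
set_option backward.isDefEq.respectTransparency false

namespace Groth.Agent.SchFinLib

open SchFin PrimeSpectrum

universe u

theorem connectedSpace_spec_iff (R : Type*) [CommRing R] :
    ConnectedSpace (PrimeSpectrum R) ↔ Nontrivial R ∧ ∀ e : R, IsIdempotentElem e → e = 0 ∨ e = 1 := by
  have hinj := basicOpen_injOn_isIdempotentElem (R := R)
  constructor
  · intro h
    refine ⟨?_, fun e he => ?_⟩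
    · obtain ⟨p⟩ := h.toNonempty
      exact nontrivial_of_ne 0 1 fun h01 => p.2.ne_top ((Ideal.eq_top_iff_one _).mpr (h01 ▸ p.asIdeal.zero_mem))
    · haveI := h.toPreconnectedSpace
      rcases _root_.isClopen_iff.mp ((PrimeSpectrum.isClopen_iff (R := R)).mpr ⟨e, he, rfl⟩) with h0 | h1
      · exact Or.inl (hinj he IsIdempotentElem.zero (SetLike.ext' (h0.trans (by rw [basicOpen_zero]; rfl))))
      · exact Or.inr (hinj he IsIdempotentElem.one (SetLike.ext' (h1.trans (by rw [basicOpen_one]; rfl))))
  · rintro ⟨_, h⟩
    haveI : PreconnectedSpace (PrimeSpectrum R) := by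
      rw [preconnectedSpace_iff_clopen]
      intro s hs
      obtain ⟨e, he, rfl⟩ := (PrimeSpectrum.isClopen_iff (R := R)).mp hs
      rcases h e he with rfl | rfl
      · exact Or.inl (by rw [basicOpen_zero]; rfl)
      · exact Or.inr (by rw [basicOpen_one]; rfl)
    exact ⟨inferInstance⟩

variable {X : RSpace.{u}}

theorem isWellConnected_iff : X.IsWellConnected ↔ X.IsTopConnected ∧ X.IsPwConnected := by
  classical
  constructor
  · rintro ⟨hc, hp⟩
    refine ⟨?_, hp⟩
    obtain ⟨hnt, hid⟩ := (connectedSpace_spec_iff _).mp hc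
    have hne : Nonempty X.pt := by
      by_contra h
      rw [not_nonempty_iff] at h
      obtain ⟨a, b, hab⟩ := hnt
      exact hab (Subtype.ext (funext fun q => (h.false q.1).elim))
    refine ⟨hne, fun p q => ?_⟩
    let C : X.pt → Prop := fun z => Relation.EqvGen (fun a b : X.pt => a ≤ b) p z
    have hC : ∀ {a b : X.pt}, a ≤ b → (C a ↔ C b) := fun {a b} h =>
      ⟨fun ha => ha.trans _ _ _ (Relation.EqvGen.rel _ _ h),
        fun hb => hb.trans _ _ _ (Relation.EqvGen.symm _ _ (Relation.EqvGen.rel _ _ h))⟩
    let e : X.sectRing Set.univ := ⟨fun z => if C z.1 then 1 else 0, fun z z' h => by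
      change X.res h (if C z.1 then 1 else 0) = if C z'.1 then 1 else 0
      by_cases hz : C z.1
      · rw [if_pos hz, if_pos ((hC h).mp hz), map_one]
      · rw [if_neg hz, if_neg (fun h' => hz ((hC h).mpr h')), map_zero]⟩
    have he : IsIdempotentElem e := Subtype.ext (funext fun z => by
      change (if C z.1 then (1 : X.ring z.1) else 0) * (if C z.1 then 1 else 0) = if C z.1 then 1 else 0
      split_ifs <;> simp)
    have hnz : ∀ z, Nontrivial (X.ring z) := fun z => ((connectedSpace_spec_iff _).mp (hp z)).1
    rcases hid e he with h | h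
    · exfalso
      have := congrArg (fun s : X.sectRing Set.univ => s.1 ⟨p, trivial⟩) h
      change (if C p then (1 : X.ring p) else 0) = 0 at this
      rw [if_pos (Relation.EqvGen.refl p)] at this
      haveI hn := hnz p
      exact one_ne_zero this
    · by_contra hq
      have := congrArg (fun s : X.sectRing Set.univ => s.1 ⟨q, trivial⟩) h
      change (if C q then (1 : X.ring q) else 0) = 1 at this
      rw [if_neg hq] at this
      haveI hn := hnz q
      exact zero_ne_one this
  · rintro ⟨⟨hne, hconn⟩, hp⟩
    refine ⟨(connectedSpace_spec_iff _).mpr ⟨?_, fun e he => ?_⟩, hp⟩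
    · obtain ⟨p⟩ := hne
      haveI := ((connectedSpace_spec_iff _).mp (hp p)).1
      exact nontrivial_of_ne 0 1 fun h =>
        zero_ne_one (congrArg (fun s : X.sectRing Set.univ => s.1 ⟨p, trivial⟩) h)
    · have h01 : ∀ z : (Set.univ : Set X.pt), e.1 z = 0 ∨ e.1 z = 1 := fun z =>
        ((connectedSpace_spec_iff _).mp (hp z.1)).2 _ (congrArg (fun s : X.sectRing Set.univ => s.1 z) he)
      have hstep : ∀ a b : X.pt, a ≤ b → (e.1 ⟨a, trivial⟩ = 1 ↔ e.1 ⟨b, trivial⟩ = 1) := by
        intro a b h
        have hr := e.2 ⟨a, trivial⟩ ⟨b, trivial⟩ h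
        haveI := ((connectedSpace_spec_iff _).mp (hp b)).1
        refine ⟨fun ha => by rw [← hr, ha, map_one], fun hb => ?_⟩
        rcases h01 ⟨a, trivial⟩ with ha | ha
        · rw [← hr, ha, map_zero] at hb
          exact absurd hb zero_ne_one
        · exact ha
      have hall : ∀ a b : X.pt, (e.1 ⟨a, trivial⟩ = 1 ↔ e.1 ⟨b, trivial⟩ = 1) := fun a b => by
        induction hconn a b with
        | rel x y h => exact hstep x y h
        | refl x => rfl
        | symm x y _ ih => exact ih.symm
        | trans x y z _ _ i1 i2 => exact i1.trans i2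
      obtain ⟨p⟩ := hne
      by_cases h1 : e.1 ⟨p, trivial⟩ = 1
      · exact Or.inr (Subtype.ext (funext fun z => (hall p z.1).mp h1))
      · exact Or.inl (Subtype.ext (funext fun z => (h01 z).resolve_right fun hz => h1 ((hall p z.1).mpr hz)))

/-- An algebra map between trivial algebras over a connected base selects coordinates. -/
theorem exists_coord {R : Type*} [CommRing R] (hR : ConnectedSpace (PrimeSpectrum R)) {F : Type*} [Finite F]
    (g : (F → R) →ₐ[R] R) : ∃ i : F, ∀ v, g v = v i := by
  classical
  haveI := Fintype.ofFinite F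
  obtain ⟨_, hid⟩ := (connectedSpace_spec_iff R).mp hR
  let c : F → R := fun i => g (Pi.single i 1)
  have hg : ∀ v, g v = ∑ i, v i * c i := by
    intro v
    conv_lhs => rw [show v = ∑ i, v i • (Pi.single i (1 : R) : F → R) from funext fun j => by simp [Pi.single_apply]]
    simp [map_sum, c]
  have hci : ∀ i, c i = 0 ∨ c i = 1 := fun i => hid _ (by
    show c i * c i = c i
    simp only [c, ← map_mul, ← Pi.single_mul, one_mul])
  have h1 : ∑ i, c i = 1 := by
    have := hg 1
    rw [map_one] at this
    simpa using this.symm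
  obtain ⟨i, hi⟩ : ∃ i, c i = 1 := by
    by_contra h
    push Not at h
    rw [Finset.sum_eq_zero fun i _ => (hci i).resolve_right (h i)] at h1
    exact zero_ne_one h1
  refine ⟨i, fun v => ?_⟩
  rw [hg, Finset.sum_eq_single i, hi, mul_one]
  · intro j _ hj
    have : c j * c i = 0 := by
      simp only [c, ← map_mul]
      rw [← map_zero g]
      congr 1
      funext k
      simp [Pi.single_apply]
      intro h1 h2
      exact absurd (h1.symm.trans h2) hj.symm
    rw [hi, mul_one] at this
    rw [this, mul_zero]
  · exact fun h => absurd (Finset.mem_univ i) h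

theorem exists_map_of_trivial_covers (hW : X.IsWellConnected) (F E : Type) [Finite F] [Finite E]
    (f : ∀ p : X.pt, (F → X.ring p) →ₐ[X.ring p] (E → X.ring p))
    (hf : ∀ (p q : X.pt) (h : p ≤ q) (g : F → X.ring p) (e : E),
      X.res h (f p g e) = f q (fun i => X.res h (g i)) e) :
    ∃ φ : E → F, ∀ (p : X.pt) (g : F → X.ring p) (e : E), f p g e = g (φ e) := by
  classical
  obtain ⟨⟨hne, hconn⟩, hp⟩ := isWellConnected_iff.mp hW
  choose φ hφ using fun (p : X.pt) (e : E) =>
    exists_coord (hp p) ((Pi.evalAlgHom (X.ring p) (fun _ : E => X.ring p) e).comp (f p))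
  have hstep : ∀ p q, p ≤ q → φ p = φ q := by
    intro p q h
    funext e
    haveI := ((connectedSpace_spec_iff _).mp (hp q)).1
    by_contra hne'
    have h1 := hf p q h (Pi.single (φ p e) 1) e
    rw [show f p (Pi.single (φ p e) 1) e = _ from hφ p e _, show f q _ e = _ from hφ q e _] at h1
    simp [Pi.single_eq_of_ne (Ne.symm hne')] at h1
  have hall : ∀ p q, φ p = φ q := fun p q => by
    induction hconn p q with
    | rel x y h => exact hstep x y h
    | refl x => rfl
    | symm x y _ ih => exact ih.symm
    | trans x y z _ _ i1 i2 => exact i1.trans i2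
  obtain ⟨p₀⟩ := hne
  exact ⟨φ p₀, fun p g e => by rw [hall p₀ p]; exact hφ p e g⟩

end Groth.Agent.SchFinLib
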