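import Groth.Agent.SchFinLib.Pairs

/-!
Geometric points of schematic finite spaces.
-/

set_option autoImplicit false
set_option backward.isDefEq.respectTransparency false

open TensorProduct

namespace Groth.Agent.SchFinLib

open SchFin

universe u

variable {X : RSpace.{u}}

lemma isBCAlong_of_bijective {R S : Type u} [CommRing R] [CommRing S] {g : R →+* S} (hg : Function.Surjective g)
    {M N : Type u} [AddCommGroup M] [AddCommGroup N] [Module R M] [Module S N] (f : M →ₛₗ[g] N)
    (hf : Function.Bijective f) : IsBCAlong g f := by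
  letI : Algebra R S := g.toAlgebra
  letI : Module R N := Module.compHom N g
  haveI : IsScalarTower R S N := IsScalarTower.of_algebraMap_smul fun _ _ => rfl
  let f' : M →ₗ[R] N := { toFun := f, map_add' := f.map_add, map_smul' := f.map_smulₛₗ }
  show IsBaseChange S f'
  let L : S ⊗[R] M →ₗ[R] N :=
    TensorProduct.lift ((((Algebra.linearMap S <| Module.End S (M →ₗ[R] N)).flip f')).restrictScalars R)
  show Function.Bijective L
  have hL : ∀ (t : S) (m : M), L (t ⊗ₜ m) = t • f m := fun _ _ => rfl
  have hrep : ∀ w : S ⊗[R] M, ∃ m, (1 : S) ⊗ₜ[R] m = w := fun w => by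
    induction w using TensorProduct.induction_on with
    | zero => exact ⟨0, TensorProduct.tmul_zero _ _⟩
    | tmul t m =>
      obtain ⟨r, rfl⟩ := hg t
      exact ⟨r • m, by rw [TensorProduct.tmul_smul, TensorProduct.smul_tmul']; congr 1; exact mul_one _⟩
    | add a b ha hb =>
      obtain ⟨a', rfl⟩ := ha
      obtain ⟨b', rfl⟩ := hb
      exact ⟨a' + b', TensorProduct.tmul_add _ _ _⟩
  refine ⟨fun a b hab => ?_, fun n => ⟨1 ⊗ₜ (hf.2 n).choose, by rw [hL, one_smul, (hf.2 n).choose_spec]⟩⟩
  obtain ⟨a', rfl⟩ := hrep a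
  obtain ⟨b', rfl⟩ := hrep b
  rw [hL, hL, one_smul, one_smul] at hab
  rw [hf.1 hab]

lemma isBCAlong_of_subsingleton {R S : Type u} [CommRing R] [CommRing S] (g : R →+* S)
    {M N : Type u} [AddCommGroup M] [AddCommGroup N] [Module R M] [Module S N] [Subsingleton M] [Subsingleton N]
    (f : M →ₛₗ[g] N) : IsBCAlong g f := by
  letI : Algebra R S := g.toAlgebra
  letI : Module R N := Module.compHom N g
  haveI : IsScalarTower R S N := IsScalarTower.of_algebraMap_smul fun _ _ => rfl
  let f' : M →ₗ[R] N := { toFun := f, map_add' := f.map_add, map_smul' := f.map_smulₛₗ }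
  show IsBaseChange S f'
  haveI : Subsingleton (S ⊗[R] M) := ⟨fun a b => by
    have : ∀ w : S ⊗[R] M, w = 0 := fun w => by
      induction w using TensorProduct.induction_on with
      | zero => rfl
      | tmul t m => rw [Subsingleton.elim m 0, TensorProduct.tmul_zero]
      | add x y hx hy => rw [hx, hy, add_zero]
    rw [this a, this b]⟩
  exact ⟨fun a b _ => Subsingleton.elim a b, fun n => ⟨0, Subsingleton.elim _ _⟩⟩

lemma subsingleton_H {Y : RSpace.{u}} {U : Set Y.pt} (hU : U.Subsingleton) {R : Type u} [CommRing R]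
    (φ : Coef Y U R) (M : OMod Y) (n : ℕ) : Subsingleton (H φ M (n + 1)) := by
  haveI : IsEmpty (Chain U (n + 1)) := ⟨fun σ => by
    have h := σ.injective (Subtype.ext (hU (σ 0).2 (σ (Fin.last _)).2))
    exact absurd (congrArg Fin.val h) (by simp)⟩
  haveI : Subsingleton (Cochain φ M (n + 1)) := ⟨fun a b => funext fun σ => isEmptyElim σ⟩
  exact ⟨fun a b => by
    obtain ⟨a', rfl⟩ := H_mk_surjective φ M (n + 1) a
    obtain ⟨b', rfl⟩ := H_mk_surjective φ M (n + 1) b
    rw [Subsingleton.elim a' b']⟩

variable {Ω : Type u} [Field Ω] [IsAlgClosed Ω]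

theorem comap_ne_ker (ξ : GeomPt X Ω) {x' : X.pt} (hx : ξ.base < x') (P : Ideal (X.ring x')) [P.IsPrime] :
    P.comap (X.res hx.le) ≠ RingHom.ker ξ.toField := by
  intro hP
  let σ := ξ.hom.subTgt PUnit.unit hx.le
  have hbc := (isBCAlong_zero_iff σ).mp (ξ.isSchematic.2.2 0 PUnit.unit PUnit.unit le_rfl ξ.base x' hx.le).2
  let U := ξ.hom.wedge PUnit.unit ξ.base
  let U' := ξ.hom.wedge PUnit.unit x'
  haveI : Subsingleton ((RSpace.point Ω).sectRing U') :=
    ⟨fun a b => Subtype.ext (funext fun q => absurd q.2.2 (fun h => hx.not_ge h))⟩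
  letI := (X.res hx.le).toAlgebra
  letI : Algebra (X.ring ξ.base) ((RSpace.point Ω).sectRing U) :=
    (toSect (Coef.ofHom ξ.hom ξ.base U (ξ.hom.wedge_subset_pre _ _))).toAlgebra
  let ev : (RSpace.point Ω).sectRing U →+* Ω := (RSpace.point Ω).evalRing U ⟨PUnit.unit, le_rfl, le_rfl⟩
  haveI : IsDomain Ω := inferInstance
  let t : PrimeSpectrum ((RSpace.point Ω).sectRing U) := ⟨RingHom.ker ev, RingHom.ker_isPrime ev⟩
  obtain ⟨w, -, -⟩ := exists_prime_tensor (A := X.ring ξ.base) (B := X.ring x') (C := (RSpace.point Ω).sectRing U)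
    ⟨P, inferInstance⟩ t (by
      refine PrimeSpectrum.ext (Ideal.ext fun r => ?_)
      show r ∈ P.comap (X.res hx.le) ↔ ξ.toField (X.res le_rfl r) = 0
      rw [hP, X.res_self]
      rfl)
  haveI : Subsingleton (X.ring x' ⊗[X.ring ξ.base] (RSpace.point Ω).sectRing U) :=
    hbc.1.subsingleton
  exact w.2.ne_top (Subsingleton.elim _ _)

/-- A maximal pair with an embedding of its residue field gives a unique geometric point. -/
theorem existsUnique_geomPt (hX : X.IsSchematic)
    (hff : ∀ s a b : X.pt, s ≤ a → s ≤ b → (X.up a ∩ X.up b).Nonempty →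
      Module.FaithfullyFlat (X.sectRing (X.up a ∩ X.up b)) ((q : ↥(X.up a ∩ X.up b)) → X.ring q.1))
    (a : X.Pair) (ha : ∀ b : X.Pair, X.PairRel a b → b.1 ≤ a.1) (φ : a.κ →+* Ω) :
    ∃! ξ : GeomPt X Ω, (⟨ξ.base, ξ.toField⟩ : Σ x : X.pt, (X.ring x →+* Ω)) =
      ⟨a.1, φ.comp (algebraMap (X.ring a.1) a.κ)⟩ := by
  let g : X.ring a.1 →+* Ω := φ.comp (algebraMap (X.ring a.1) a.κ)
  have hker : RingHom.ker g = a.2.asIdeal := by
    ext r
    show φ (algebraMap (X.ring a.1) a.κ r) = 0 ↔ _
    rw [map_eq_zero, Ideal.algebraMap_residueField_eq_zero]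
  let f : SchFin.Hom (RSpace.point Ω) X :=
    { fn := fun _ => a.1
      mono := fun _ _ _ => le_rfl
      app := fun _ => g
      compat := fun h b => by show g b = g (X.res _ b); rw [X.res_self] }
  have hsub : ∀ U : Set (RSpace.point Ω).pt, U.Subsingleton := fun U p _ q _ => rfl
  have hfin : (RSpace.point Ω).IsFinSp :=
    ⟨fun _ => (inferInstance : IsNoetherianRing Ω), fun p q h => RingHom.Flat.id Ω⟩
  have hsch : f.IsSchematic := by
    refine ⟨hfin, hX.1, fun n x x' hx y y' hy => ⟨?_, ?_⟩⟩
    · obtain rfl : x = x' := rfl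
      refine isBCAlong_of_bijective (fun r => ⟨r, rfl⟩) _ ?_
      have : ∀ z, resH (RSpace.point Ω).str (f.subSrc hx y) n z = z := fun z => by
        obtain ⟨c, rfl⟩ := H_mk_surjective _ _ n z
        rfl
      exact ⟨fun z z' h => by rwa [this, this] at h, fun z => ⟨z, this z⟩⟩
    · cases n with
      | succ n =>
        haveI := subsingleton_H (hsub (f.wedge x y)) (Coef.ofHom f y (f.wedge x y) (f.wedge_subset_pre x y))
          (RSpace.point Ω).str n
        haveI := subsingleton_H (hsub (f.wedge x y')) (Coef.ofHom f y' (f.wedge x y') (f.wedge_subset_pre x y'))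
          (RSpace.point Ω).str n
        exact isBCAlong_of_subsingleton _ _
      | zero =>
        refine (isBCAlong_zero_iff (f.subTgt x hy)).mpr ?_
        let U := f.wedge x y
        let U' := f.wedge x y'
        let φU := Coef.ofHom f y U (f.wedge_subset_pre x y)
        let φU' := Coef.ofHom f y' U' (f.wedge_subset_pre x y')
        letI := (X.res hy).toAlgebra
        letI : Algebra (X.ring y) ((RSpace.point Ω).sectRing U) := (toSect φU).toAlgebra
        by_cases hy' : y' ≤ a.1
        · have hmem : U ⊆ U' := fun z hz => ⟨hz.1, hy'⟩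
          let ψ : X.ring y' →+* (RSpace.point Ω).sectRing U := (sectRes (RSpace.point Ω) hmem).comp (toSect φU')
          have hψ : ∀ r, ψ (X.res hy r) = toSect φU r := fun r =>
            Subtype.ext (funext fun z => (f.subTgt x hy).compat ⟨z.1, hmem z.2⟩ r)
          haveI := isEpi_res hX hy
          let Lψ : X.ring y' →ₗ[X.ring y] (RSpace.point Ω).sectRing U :=
            { toFun := ψ, map_add' := map_add ψ,
              map_smul' := fun r t => by
                show ψ (X.res hy r * t) = toSect φU r * ψ t
                rw [map_mul, hψ] }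
          have hone : ∀ t z, t ⊗ₜ[X.ring y] z = (1 : X.ring y') ⊗ₜ[X.ring y] (ψ t * z) := by
            intro t z
            have h1 := congrArg (LinearMap.lTensor (X.ring y') ((LinearMap.mulRight (X.ring y) z).comp Lψ))
              ((Algebra.isEpi_iff_forall_one_tmul_eq (X.ring y) (X.ring y')).mp inferInstance t)
            simp only [LinearMap.lTensor_tmul, LinearMap.comp_apply, LinearMap.mulRight_apply] at h1
            rw [show Lψ 1 = 1 from map_one ψ, one_mul] at h1
            exact h1.symm
          have hrep : ∀ w : X.ring y' ⊗[X.ring y] (RSpace.point Ω).sectRing U, ∃ z, (1 : X.ring y') ⊗ₜ z = w :=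
            fun w => by
              induction w using TensorProduct.induction_on with
              | zero => exact ⟨0, TensorProduct.tmul_zero _ _⟩
              | tmul t z => exact ⟨_, (hone t z).symm⟩
              | add p q hp hq =>
                obtain ⟨p', rfl⟩ := hp
                obtain ⟨q', rfl⟩ := hq
                exact ⟨p' + q', TensorProduct.tmul_add _ _ _⟩
          have hb1 : ∀ z, bcMap (f.subTgt x hy) ((1 : X.ring y') ⊗ₜ z) =
              sectRes (RSpace.point Ω) (f.subTgt x hy).le z := fun z => by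
            rw [bcMap_tmul, map_one, one_mul]
          refine ⟨fun p q hpq => ?_, fun z => ⟨1 ⊗ₜ sectRes (RSpace.point Ω) hmem z, by rw [hb1]; rfl⟩⟩
          obtain ⟨p', rfl⟩ := hrep p
          obtain ⟨q', rfl⟩ := hrep q
          rw [hb1, hb1] at hpq
          have h2 : p' = q' := congrArg (sectRes (RSpace.point Ω) hmem) hpq
          rw [h2]
        · haveI : Subsingleton ((RSpace.point Ω).sectRing U') :=
            ⟨fun s t => Subtype.ext (funext fun q => absurd q.2.2 hy')⟩
          suffices Subsingleton (X.ring y' ⊗[X.ring y] (RSpace.point Ω).sectRing U) from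
            ⟨fun s t _ => Subsingleton.elim s t, fun s => ⟨0, Subsingleton.elim _ _⟩⟩
          by_contra hns
          rw [not_subsingleton_iff_nontrivial] at hns
          obtain ⟨w⟩ := (inferInstance : Nonempty (PrimeSpectrum (X.ring y' ⊗[X.ring y] (RSpace.point Ω).sectRing U)))
          let r : PrimeSpectrum (X.ring y') := PrimeSpectrum.comap Algebra.TensorProduct.includeLeftRingHom w
          let iR := (Algebra.TensorProduct.includeRight (R := X.ring y) (A := X.ring y')
            (B := (RSpace.point Ω).sectRing U)).toRingHom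
          let q := PrimeSpectrum.comap iR w
          have hyx : y ≤ a.1 := by
            by_contra h
            haveI : Subsingleton ((RSpace.point Ω).sectRing U) :=
              ⟨fun s t => Subtype.ext (funext fun q => absurd q.2.2 h)⟩
            exact q.2.ne_top (Subsingleton.elim _ _)
          have hpu : x ∈ U := ⟨le_rfl, hyx⟩
          have hq : ∀ s : (RSpace.point Ω).sectRing U, s ∈ q.asIdeal ↔ s.1 ⟨x, hpu⟩ = 0 := by
            intro s
            constructor
            · intro hs
              by_contra hne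
              refine q.2.ne_top ((Ideal.eq_top_iff_one _).mpr ?_)
              obtain ⟨v, hv⟩ : ∃ v : Ω, v = s.1 ⟨x, hpu⟩ := ⟨_, rfl⟩
              have hv0 : v ≠ 0 := fun h => hne (hv.symm.trans h)
              have : (1 : (RSpace.point Ω).sectRing U) = ⟨fun _ => (v⁻¹ : Ω), fun _ _ _ => rfl⟩ * s :=
                Subtype.ext (funext fun z => by
                  show (1 : Ω) = v⁻¹ * (id (s.1 ⟨x, hpu⟩) : Ω)
                  exact (inv_mul_cancel₀ hv0).symm.trans (congrArg (fun t : Ω => v⁻¹ * t) hv))
              rw [this]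
              exact q.asIdeal.mul_mem_left _ hs
            · intro hs
              rw [show s = 0 from Subtype.ext (funext fun z => hs)]
              exact q.asIdeal.zero_mem
          have hcomap : PrimeSpectrum.comap (X.res hy) r = PrimeSpectrum.comap (X.res hyx) a.2 := by
            refine PrimeSpectrum.ext (Ideal.ext fun v => ?_)
            show Algebra.TensorProduct.includeLeftRingHom (X.res hy v) ∈ w.asIdeal ↔ X.res hyx v ∈ a.2.asIdeal
            rw [show (Algebra.TensorProduct.includeLeftRingHom (X.res hy v) :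
                X.ring y' ⊗[X.ring y] (RSpace.point Ω).sectRing U) = iR (toSect φU v) from
              ((Algebra.TensorProduct.includeLeft (R := X.ring y) (S := X.ring y) (A := X.ring y')
                (B := (RSpace.point Ω).sectRing U)).commutes v).trans
              ((Algebra.TensorProduct.includeRight (R := X.ring y) (A := X.ring y')
                (B := (RSpace.point Ω).sectRing U)).commutes v).symm]
            show toSect φU v ∈ q.asIdeal ↔ _
            rw [hq, ← hker, RingHom.mem_ker]
            rfl
          exact hy' (ha ⟨y', r⟩ (pairRel_of_comap_eq hX hff hyx hy a.2 r hcomap.symm))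
  refine ⟨⟨f, hsch⟩, rfl, ?_⟩
  rintro ⟨⟨fn, mono, app, compat⟩, hs'⟩ he
  have hfn : fn = fun _ => a.1 := funext fun p => congrArg Sigma.fst he
  subst hfn
  have happ : app = fun _ => g := funext fun p => eq_of_heq (Sigma.mk.inj_iff.mp he).2
  subst happ
  rfl

end Groth.Agent.SchFinLib
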