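import Mathlib

/-!
Descent of properties along a finite family of algebras whose product is faithfully flat.
-/

set_option autoImplicit false
set_option backward.isDefEq.respectTransparency false

open TensorProduct

namespace Groth.Agent.SchFinLib.Descent

universe u

variable {S : Type u} [CommRing S] {ι : Type u} [Finite ι] {O : ι → Type u} [∀ i, CommRing (O i)]
  [∀ i, Algebra S (O i)] [Module.FaithfullyFlat S ((i : ι) → O i)]

theorem flat_component (i : ι) : Module.Flat S (O i) := by
  classical
  exact Module.Flat.of_retract (f := inferInstanceAs (Module.Flat S ((j : ι) → O j)))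
    (LinearMap.single S O i) (LinearMap.proj i) (LinearMap.ext fun x => by simp)

theorem subsingleton_of_forall {N : Type u} [AddCommGroup N] [Module S N]
    (h : ∀ i, Subsingleton (O i ⊗[S] N)) : Subsingleton N := by
  classical
  haveI := Fintype.ofFinite ι
  haveI : Subsingleton (((i : ι) → O i) ⊗[S] N) :=
    (TensorProduct.piLeft S N O).toEquiv.subsingleton
  exact Module.FaithfullyFlat.lTensor_reflects_triviality S ((i : ι) → O i) N

theorem injective_of_forall {M N : Type u} [AddCommGroup M] [Module S M] [AddCommGroup N] [Module S N]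
    (f : M →ₗ[S] N) (h : ∀ i, Function.Injective (f.lTensor (O i))) : Function.Injective f := by
  rw [← LinearMap.ker_eq_bot, ← Submodule.subsingleton_iff_eq_bot]
  refine subsingleton_of_forall (S := S) (O := O) fun i => ?_
  haveI := flat_component (S := S) (O := O) i
  refine ⟨fun a b => ?_⟩
  refine Module.Flat.lTensor_preserves_injective_linearMap (M := O i) (LinearMap.ker f).subtype
    (Submodule.injective_subtype _) (h i ?_)
  rw [← LinearMap.lTensor_comp_apply, ← LinearMap.lTensor_comp_apply, LinearMap.comp_ker_subtype]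
  simp

theorem surjective_of_forall {M N : Type u} [AddCommGroup M] [Module S M] [AddCommGroup N] [Module S N]
    (f : M →ₗ[S] N) (h : ∀ i, Function.Surjective (f.lTensor (O i))) : Function.Surjective f := by
  rw [← LinearMap.range_eq_top, ← Submodule.Quotient.subsingleton_iff]
  refine subsingleton_of_forall (S := S) (O := O) fun i => ?_
  refine ⟨fun a b => ?_⟩
  have hz : ∀ z : O i ⊗[S] (N ⧸ LinearMap.range f), z = 0 := fun z => by
    obtain ⟨y, rfl⟩ := LinearMap.lTensor_surjective (O i) (Submodule.mkQ_surjective (LinearMap.range f)) z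
    obtain ⟨x, rfl⟩ := h i y
    rw [← LinearMap.lTensor_comp_apply, LinearMap.range_mkQ_comp]
    simp
  rw [hz a, hz b]

theorem bijective_of_forall {M N : Type u} [AddCommGroup M] [Module S M] [AddCommGroup N] [Module S N]
    (f : M →ₗ[S] N) (h : ∀ i, Function.Bijective (f.lTensor (O i))) : Function.Bijective f :=
  ⟨injective_of_forall f fun i => (h i).1, surjective_of_forall f fun i => (h i).2⟩

theorem flat_of_forall (T : Type u) [AddCommGroup T] [Module S T]
    (h : ∀ i, Module.Flat (O i) (O i ⊗[S] T)) : Module.Flat S T := by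
  rw [Module.Flat.iff_lTensor_preserves_injective_linearMap]
  intro N P _ _ _ _ f hf
  refine injective_of_forall (O := O) _ fun i => ?_
  haveI := flat_component (S := S) (O := O) i
  haveI := h i
  haveI : Module.Flat S (O i ⊗[S] T) := Module.Flat.trans S (O i) (O i ⊗[S] T)
  have : LinearMap.lTensor (O i) (LinearMap.lTensor T f) =
      (TensorProduct.assoc _ _ _ _).toLinearMap ∘ₗ LinearMap.lTensor (O i ⊗[S] T) f ∘ₗ
        (TensorProduct.assoc _ _ _ _).symm.toLinearMap := by
    ext
    simp
  simpa [this] using Module.Flat.lTensor_preserves_injective_linearMap f hf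

theorem faithfullyFlat_of_forall (T : Type u) [AddCommGroup T] [Module S T]
    (h : ∀ i, Module.FaithfullyFlat (O i) (O i ⊗[S] T)) : Module.FaithfullyFlat S T := by
  rw [Module.FaithfullyFlat.iff_flat_and_lTensor_reflects_triviality]
  refine ⟨flat_of_forall (O := O) T fun i => (h i).toFlat, fun N _ _ hN => ?_⟩
  refine subsingleton_of_forall (S := S) (O := O) fun i => ?_
  haveI := h i
  haveI : Subsingleton ((O i ⊗[S] T) ⊗[S] N) := (TensorProduct.assoc S (O i) T N).toEquiv.subsingleton
  haveI : Subsingleton ((O i ⊗[S] T) ⊗[O i] (O i ⊗[S] N)) :=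
    (AlgebraTensorModule.cancelBaseChange S (O i) (O i) (O i ⊗[S] T) N).toEquiv.subsingleton
  exact Module.FaithfullyFlat.lTensor_reflects_triviality (O i) (O i ⊗[S] T) (O i ⊗[S] N)

theorem finite_of_forall (T : Type u) [AddCommGroup T] [Module S T]
    (h : ∀ i, Module.Finite (O i) (O i ⊗[S] T)) : Module.Finite S T := by
  classical
  have hs : ∀ i, ∃ s : Finset T, ∀ w : O i ⊗[S] T,
      w ∈ LinearMap.range ((Submodule.span S (s : Set T)).subtype.lTensor (O i)) := by
    intro i
    obtain ⟨n, v, hv⟩ := Module.Finite.exists_fin (R := O i) (M := O i ⊗[S] T)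
    choose k t m hm using fun j : Fin n => TensorProduct.exists_sum_tmul_eq (v j)
    refine ⟨Finset.univ.biUnion fun j => Finset.univ.image (m j), fun w => ?_⟩
    set s := Finset.univ.biUnion fun j => Finset.univ.image (m j)
    let g : O i ⊗[S] Submodule.span S (s : Set T) →ₗ[O i] O i ⊗[S] T :=
      AlgebraTensorModule.lTensor (O i) (O i) (Submodule.span S (s : Set T)).subtype
    have hv' : ∀ j, v j ∈ LinearMap.range g := fun j => by
      rw [hm]
      refine Submodule.sum_mem _ fun l _ => ⟨t j l ⊗ₜ ⟨m j l, Submodule.subset_span ?_⟩, rfl⟩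
      exact Finset.mem_biUnion.mpr ⟨j, Finset.mem_univ _, Finset.mem_image_of_mem _ (Finset.mem_univ l)⟩
    have htop : LinearMap.range g = ⊤ := by
      rw [eq_top_iff, ← hv, Submodule.span_le, Set.range_subset_iff]
      exact hv'
    obtain ⟨z, hz⟩ : w ∈ LinearMap.range g := htop ▸ Submodule.mem_top
    exact ⟨z, hz⟩
  choose s hs using hs
  haveI := Fintype.ofFinite ι
  let S₀ : Finset T := Finset.univ.biUnion s
  have hsub : ∀ i, Submodule.span S (s i : Set T) ≤ Submodule.span S (S₀ : Set T) := fun i =>
    Submodule.span_mono fun x hx => Finset.mem_biUnion.mpr ⟨i, Finset.mem_univ _, hx⟩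
  have hsurj : Function.Surjective (Submodule.span S (S₀ : Set T)).subtype :=
    surjective_of_forall (O := O) _ fun i w => by
      obtain ⟨z, rfl⟩ := hs i w
      exact ⟨(Submodule.inclusion (hsub i)).lTensor (O i) z, by rw [← LinearMap.lTensor_comp_apply]; rfl⟩
  exact ⟨⟨S₀, eq_top_iff.mpr fun x _ => by obtain ⟨⟨y, hy⟩, rfl⟩ := hsurj x; exact hy⟩⟩

theorem etale_of_forall (T : Type u) [CommRing T] [Algebra S T]
    (h : ∀ i, Algebra.Etale (O i) (O i ⊗[S] T)) : Algebra.Etale S T := by
  classical
  haveI := Fintype.ofFinite ι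
  let B := (i : ι) → O i
  letI algi (i : ι) : Algebra B (O i) := (Pi.evalRingHom O i).toAlgebra
  haveI hloc (i : ι) : IsLocalization.Away (Pi.single i (1 : O i) : B) (O i) := by
    refine IsLocalization.away_of_isIdempotentElem ?_ (RingHom.ker_evalRingHom _ _) (Pi.evalRingHom O i).surjective
    simp [IsIdempotentElem, ← Pi.single_mul_left]
  haveI het (i : ι) : Algebra.Etale B (O i) := Algebra.Etale.of_isLocalizationAway (Pi.single i (1 : O i) : B)
  haveI hBT (i : ι) : Algebra.Etale B (O i ⊗[S] T) := Algebra.Etale.comp B (O i) (O i ⊗[S] T)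
  haveI : Algebra.Etale B ((i : ι) → O i ⊗[S] T) := by
    haveI : Algebra.FormallyEtale B ((i : ι) → O i ⊗[S] T) :=
      (Algebra.FormallyEtale.pi_iff (R := B) (fun i => O i ⊗[S] T)).mpr fun i => inferInstance
    exact ⟨inferInstance, inferInstance⟩
  let g : B →ₐ[B] ((i : ι) → O i ⊗[S] T) := Algebra.ofId _ _
  let F : B ⊗[S] T →ₐ[B] ((i : ι) → O i ⊗[S] T) :=
    Algebra.TensorProduct.lift g
      ({ toFun := fun t i => (1 : O i) ⊗ₜ t
         map_one' := rfl
         map_mul' := fun a b => funext fun i => by simp
         map_zero' := funext fun i => TensorProduct.tmul_zero _ _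
         map_add' := fun a b => funext fun i => TensorProduct.tmul_add _ _ _
         commutes' := fun r => funext fun i =>
          (Algebra.TensorProduct.includeRight (R := S) (A := O i) (B := T)).commutes r } : T →ₐ[S] _)
      (fun _ _ => Commute.all _ _)
  have hF : (F : B ⊗[S] T → _) = TensorProduct.piLeft S T O := by
    funext w
    induction w using TensorProduct.induction_on with
    | zero => simp
    | tmul b t =>
      funext i
      rw [TensorProduct.piLeft]
      simp [F, g, Algebra.ofId_apply, RingHom.algebraMap_toAlgebra, algi, Pi.evalRingHom_apply]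
      rfl
    | add x y hx hy => rw [map_add, map_add, hx, hy]
  have hbij : Function.Bijective F := by rw [hF]; exact (TensorProduct.piLeft S T O).bijective
  haveI : Algebra.Etale B (B ⊗[S] T) := Algebra.Etale.of_equiv (AlgEquiv.ofBijective F hbij).symm
  exact Algebra.Etale.of_etale_tensorProduct_of_faithfullyFlat B

end Groth.Agent.SchFinLib.Descent
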