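import Groth.Agent.SchFinLib.Degree0
import Groth.Agent.SchFinLib.Descent

/-!
Sections over an affine up-closed set of a quasi-coherent module and algebra.
-/

set_option autoImplicit false
set_option backward.isDefEq.respectTransparency false

open TensorProduct

namespace Groth.Agent.SchFinLib

open SchFin

universe u

variable {X : RSpace.{u}}

/-- The base change map attached to a semilinear map. -/
noncomputable def bcLift {R S M N : Type u} [CommRing R] [CommRing S] (g : R →+* S)
    [AddCommGroup M] [AddCommGroup N] [Module R M] [Module S N] (f : M →ₛₗ[g] N) :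
    letI := g.toAlgebra; S ⊗[R] M →+ N :=
  letI := g.toAlgebra
  TensorProduct.liftAddHom
    { toFun := fun s =>
        { toFun := fun m => s • f m
          map_zero' := by simp
          map_add' := fun a b => by simp [smul_add] }
      map_zero' := AddMonoidHom.ext fun m => by simp
      map_add' := fun a b => AddMonoidHom.ext fun m => by simp [add_smul] }
    (fun r s m => by
      show (g r * s) • f m = s • f (r • m)
      rw [LinearMap.map_smulₛₗ, smul_smul, mul_comm])

lemma bcLift_tmul {R S M N : Type u} [CommRing R] [CommRing S] (g : R →+* S)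
    [AddCommGroup M] [AddCommGroup N] [Module R M] [Module S N] (f : M →ₛₗ[g] N) (s : S) (m : M) :
    letI := g.toAlgebra; bcLift g f (s ⊗ₜ[R] m) = s • f m := rfl

lemma isBCAlong_iff {R S M N : Type u} [CommRing R] [CommRing S] (g : R →+* S)
    [AddCommGroup M] [AddCommGroup N] [Module R M] [Module S N] (f : M →ₛₗ[g] N) :
    IsBCAlong g f ↔ Function.Bijective (bcLift g f) := by
  letI : Algebra R S := g.toAlgebra
  letI : Module R N := Module.compHom N g
  haveI : IsScalarTower R S N := IsScalarTower.of_algebraMap_smul fun _ _ => rfl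
  let f' : M →ₗ[R] N := { toFun := f, map_add' := f.map_add, map_smul' := f.map_smulₛₗ }
  show IsBaseChange S f' ↔ _
  let L : S ⊗[R] M →ₗ[R] N :=
    TensorProduct.lift ((((Algebra.linearMap S <| Module.End S (M →ₗ[R] N)).flip f')).restrictScalars R)
  show Function.Bijective L ↔ _
  have : (L : S ⊗[R] M → N) = bcLift g f := by
    funext w
    induction w using TensorProduct.induction_on with
    | zero => simp
    | tmul s m => rfl
    | add a b ha hb => rw [map_add, map_add, ha, hb]
  rw [this]

lemma isQcoh_restrict {M : OMod X} (hM : M.IsQcoh) (U : Set X.pt) : (M.restrict U).IsQcoh :=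
  fun p q h => hM p.1 q.1 h

/-- Evaluation is a base change for quasi-coherent modules on an affine piece. -/
theorem bcLift_eval_bijective (U : Set X.pt) (hUa : (X.restrict U).IsAffine) (M : OMod X) (hM : M.IsQcoh)
    (q : U) : Function.Bijective (bcLift (X.evalRing U q) (M.evalMod U q)) := by
  let X' := X.restrict U
  let M' := M.restrict U
  have h := (isBCAlong_iff _ _).mp (hUa.2.2.1 M' (isQcoh_restrict hM U) q)
  letI : Algebra (X.sectRing U) (X.ring q.1) := (X.evalRing U q).toAlgebra
  letI : Algebra (X'.sectRing Set.univ) (X.ring q.1) := (X'.evalRing Set.univ ⟨q, trivial⟩).toAlgebra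
  let η : X.sectRing U → X'.sectRing Set.univ := fun s => ⟨fun z => s.1 z.1, fun z z' hz => s.2 z.1 z'.1 hz⟩
  let η' : X'.sectRing Set.univ → X.sectRing U :=
    fun s => ⟨fun z => s.1 ⟨z, trivial⟩, fun z z' hz => s.2 ⟨z, trivial⟩ ⟨z', trivial⟩ hz⟩
  let ι : M.sect U → M'.sect Set.univ := fun m => ⟨fun z => m.1 z.1, fun z z' hz => m.2 z.1 z'.1 hz⟩
  let ι' : M'.sect Set.univ → M.sect U :=
    fun m => ⟨fun z => m.1 ⟨z, trivial⟩, fun z z' hz => m.2 ⟨z, trivial⟩ ⟨z', trivial⟩ hz⟩
  let c : X.ring q.1 ⊗[X.sectRing U] M.sect U →+ X.ring q.1 ⊗[X'.sectRing Set.univ] M'.sect Set.univ :=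
    TensorProduct.liftAddHom
      { toFun := fun t =>
          { toFun := fun m => t ⊗ₜ ι m
            map_zero' := TensorProduct.tmul_zero _ _
            map_add' := fun a b => by show t ⊗ₜ (ι a + ι b) = _; rw [TensorProduct.tmul_add] }
        map_zero' := AddMonoidHom.ext fun m => TensorProduct.zero_tmul _ _
        map_add' := fun a b => AddMonoidHom.ext fun m => TensorProduct.add_tmul _ _ _ }
      (fun r t m => by
        show (r • t) ⊗ₜ[X'.sectRing Set.univ] ι m = t ⊗ₜ[X'.sectRing Set.univ] ι (r • m)
        rw [show ι (r • m) = η r • ι m from rfl, show r • t = η r • t from rfl, TensorProduct.smul_tmul])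
  let c' : X.ring q.1 ⊗[X'.sectRing Set.univ] M'.sect Set.univ →+ X.ring q.1 ⊗[X.sectRing U] M.sect U :=
    TensorProduct.liftAddHom
      { toFun := fun t =>
          { toFun := fun m => t ⊗ₜ ι' m
            map_zero' := TensorProduct.tmul_zero _ _
            map_add' := fun a b => by show t ⊗ₜ (ι' a + ι' b) = _; rw [TensorProduct.tmul_add] }
        map_zero' := AddMonoidHom.ext fun m => TensorProduct.zero_tmul _ _
        map_add' := fun a b => AddMonoidHom.ext fun m => TensorProduct.add_tmul _ _ _ }
      (fun r t m => by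
        show (r • t) ⊗ₜ[X.sectRing U] ι' m = t ⊗ₜ[X.sectRing U] ι' (r • m)
        rw [show ι' (r • m) = η' r • ι' m from rfl, show r • t = η' r • t from rfl, TensorProduct.smul_tmul])
  have hc : Function.Bijective c := by
    refine Function.bijective_iff_has_inverse.mpr ⟨c', fun w => ?_, fun w => ?_⟩
    · induction w using TensorProduct.induction_on with
      | zero => simp
      | tmul t m => rfl
      | add a b ha hb => rw [map_add, map_add, ha, hb]
    · induction w using TensorProduct.induction_on with
      | zero => simp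
      | tmul t m => rfl
      | add a b ha hb => rw [map_add, map_add, ha, hb]
  have key : (bcLift (X.evalRing U q) (M.evalMod U q) : _ → _) =
      bcLift (X'.evalRing Set.univ ⟨q, trivial⟩) (M'.evalMod Set.univ ⟨q, trivial⟩) ∘ c := by
    funext w
    induction w using TensorProduct.induction_on with
    | zero => simp
    | tmul t m => rfl
    | add a b ha hb => simp only [Function.comp_apply, map_add] at ha hb ⊢; rw [ha, hb]
  rw [key]
  exact h.comp hc

/-- Sections of a quasi-coherent module over an affine piece above a point. -/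
theorem isBCAlong_resSect (x : X.pt) (U : Set X.pt) (hU : U ⊆ X.up x)
    (hUa : (X.restrict U).IsAffine) (hff : Module.FaithfullyFlat (X.sectRing U) ((q : ↥U) → X.ring q.1))
    (M : OMod X) (hM : M.IsQcoh) : IsBCAlong (X.resSect x U hU) (M.resSect x U hU) := by
  rw [isBCAlong_iff]
  letI : Algebra (X.ring x) (X.sectRing U) := (X.resSect x U hU).toAlgebra
  letI (q : U) : Algebra (X.sectRing U) (X.ring q.1) := (X.evalRing U q).toAlgebra
  let Φ : X.sectRing U ⊗[X.ring x] M.carrier x →ₗ[X.sectRing U] M.sect U :=
    { toFun := bcLift (X.resSect x U hU) (M.resSect x U hU)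
      map_add' := map_add _
      map_smul' := fun s w => by
        induction w using TensorProduct.induction_on with
        | zero => simp
        | tmul t m => rw [TensorProduct.smul_tmul', RingHom.id_apply, bcLift_tmul, bcLift_tmul, smul_smul]; rfl
        | add a b ha hb => simp only [smul_add, map_add, ha, hb, RingHom.id_apply] }
  refine Descent.bijective_of_forall (O := fun q : U => X.ring q.1) Φ fun q => ?_
  letI : Algebra (X.ring x) (X.ring q.1) := (X.res (hU q.2)).toAlgebra
  haveI : IsScalarTower (X.ring x) (X.sectRing U) (X.ring q.1) := IsScalarTower.of_algebraMap_eq fun a => rfl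
  let e1 : X.ring q.1 ⊗[X.sectRing U] (X.sectRing U ⊗[X.ring x] M.carrier x) ≃ₗ[X.ring q.1]
      X.ring q.1 ⊗[X.ring x] M.carrier x :=
    AlgebraTensorModule.cancelBaseChange (X.ring x) (X.sectRing U) (X.ring q.1) (X.ring q.1) (M.carrier x)
  have hbot := (isBCAlong_iff _ _).mp (hM x q.1 (hU q.2))
  have hright := bcLift_eval_bijective U hUa M hM q
  have key : (bcLift (X.evalRing U q) (M.evalMod U q) : _ → _) ∘ (Φ.lTensor (X.ring q.1)) =
      (bcLift (X.res (hU q.2)) (M.res (hU q.2)) : _ → _) ∘ e1 := by
    funext w
    induction w using TensorProduct.induction_on with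
    | zero => simp
    | tmul t z =>
      induction z using TensorProduct.induction_on with
      | zero => simp
      | tmul s m =>
        simp only [Function.comp_apply, LinearMap.lTensor_tmul]
        rw [show e1 (t ⊗ₜ (s ⊗ₜ m)) = (s • t) ⊗ₜ[X.ring x] m from
          AlgebraTensorModule.cancelBaseChange_tmul ..]
        show t • (s.1 q • M.res (hU q.2) m) = (s.1 q * t) • M.res (hU q.2) m
        rw [smul_smul, mul_comm]
      | add a b ha hb =>
        simp only [Function.comp_apply] at ha hb ⊢
        simp only [TensorProduct.tmul_add, map_add, ha, hb]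
    | add a b ha hb =>
      simp only [Function.comp_apply] at ha hb ⊢
      simp only [map_add, ha, hb]
  exact (Function.Bijective.of_comp_iff' hright _).mp (key ▸ hbot.comp e1.bijective)

variable (A : Alg X)

/-- Sections of the algebra, as an algebra over sections of the rings. -/
@[reducible] noncomputable def sectAlgebra (U : Set X.pt) : Algebra (X.sectRing U) (A.total.sectRing U) :=
  (A.sectMap U).toAlgebra

/-- The identification of the base change of sections with the value at a point. -/
theorem exists_algEquiv (hA : A.IsQcoh) (U : Set X.pt) (hUa : (X.restrict U).IsAffine) (q : U) :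
    letI := (X.evalRing U q).toAlgebra; letI := sectAlgebra A U
    Nonempty (X.ring q.1 ⊗[X.sectRing U] A.total.sectRing U ≃ₐ[X.ring q.1] A.carrier q.1) := by
  letI := (X.evalRing U q).toAlgebra
  letI := sectAlgebra A U
  letI : Algebra (X.sectRing U) (A.carrier q.1) :=
    ((algebraMap (X.ring q.1) (A.carrier q.1)).comp (X.evalRing U q)).toAlgebra
  haveI : IsScalarTower (X.sectRing U) (X.ring q.1) (A.carrier q.1) := IsScalarTower.of_algebraMap_eq fun _ => rfl
  let ev : A.total.sectRing U →ₐ[X.sectRing U] A.carrier q.1 :=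
    { A.total.evalRing U q with commutes' := fun _ => rfl }
  let Λ : X.ring q.1 ⊗[X.sectRing U] A.total.sectRing U →ₐ[X.ring q.1] A.carrier q.1 :=
    Algebra.TensorProduct.lift (Algebra.ofId _ _) ev (fun _ _ => Commute.all _ _)
  refine ⟨AlgEquiv.ofBijective Λ ?_⟩
  let ι : A.total.sectRing U → A.toMod.sect U := fun t => ⟨t.1, fun z z' h => t.2 z z' h⟩
  let ι' : A.toMod.sect U → A.total.sectRing U := fun t => ⟨t.1, fun z z' h => t.2 z z' h⟩
  let e : A.total.sectRing U ≃ₗ[X.sectRing U] A.toMod.sect U :=
    { toFun := ι, invFun := ι', left_inv := fun _ => rfl, right_inv := fun _ => rfl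
      map_add' := fun _ _ => rfl
      map_smul' := fun s t => Subtype.ext (funext fun z => (Algebra.smul_def (A := A.carrier z.1) (s.1 z) (t.1 z)).symm) }
  have key : (Λ : _ → _) = (bcLift (X.evalRing U q) (A.toMod.evalMod U q) : _ → _) ∘ e.lTensor (X.ring q.1) := by
    funext w
    induction w using TensorProduct.induction_on with
    | zero => simp
    | tmul t m =>
      simp only [Function.comp_apply, LinearEquiv.lTensor_tmul, Λ, Algebra.TensorProduct.lift_tmul]
      exact (Algebra.smul_def (A := A.carrier q.1) t (m.1 q)).symm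
    | add a b ha hb => simp only [Function.comp_apply] at ha hb ⊢; simp only [map_add, ha, hb]
  rw [key]
  exact (bcLift_eval_bijective U hUa A.toMod hA q).comp (e.lTensor (X.ring q.1)).bijective

variable {A}

theorem flat_iff (hA : A.IsQcoh) (U : Set X.pt) (hUa : (X.restrict U).IsAffine)
    (hφ : Module.FaithfullyFlat (X.sectRing U) ((q : ↥U) → X.ring q.1)) :
    (∀ q : X.pt, q ∈ U → Module.Flat (X.ring q) (A.carrier q)) ↔ (A.sectMap U).Flat := by
  letI := sectAlgebra A U
  constructor
  · intro h
    letI (q : U) : Algebra (X.sectRing U) (X.ring q.1) := (X.evalRing U q).toAlgebra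
    refine Descent.flat_of_forall (O := fun q : U => X.ring q.1) (A.total.sectRing U) fun q => ?_
    obtain ⟨e⟩ := exists_algEquiv A hA U hUa q
    haveI := h q.1 q.2
    exact Module.Flat.of_linearEquiv e.toLinearEquiv
  · intro h q hq
    letI := (X.evalRing U ⟨q, hq⟩).toAlgebra
    obtain ⟨e⟩ := exists_algEquiv A hA U hUa ⟨q, hq⟩
    haveI : Module.Flat (X.sectRing U) (A.total.sectRing U) := h
    exact Module.Flat.of_linearEquiv e.symm.toLinearEquiv

theorem faithfullyFlat_iff (hA : A.IsQcoh) (U : Set X.pt) (hUa : (X.restrict U).IsAffine)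
    (hφ : Module.FaithfullyFlat (X.sectRing U) ((q : ↥U) → X.ring q.1)) :
    (∀ q : X.pt, q ∈ U → Module.FaithfullyFlat (X.ring q) (A.carrier q)) ↔ (A.sectMap U).FaithfullyFlat := by
  letI := sectAlgebra A U
  constructor
  · intro h
    letI (q : U) : Algebra (X.sectRing U) (X.ring q.1) := (X.evalRing U q).toAlgebra
    refine Descent.faithfullyFlat_of_forall (O := fun q : U => X.ring q.1) (A.total.sectRing U) fun q => ?_
    obtain ⟨e⟩ := exists_algEquiv A hA U hUa q
    haveI := h q.1 q.2
    exact Module.FaithfullyFlat.of_linearEquiv _ _ e.toLinearEquiv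
  · intro h q hq
    letI := (X.evalRing U ⟨q, hq⟩).toAlgebra
    obtain ⟨e⟩ := exists_algEquiv A hA U hUa ⟨q, hq⟩
    haveI : Module.FaithfullyFlat (X.sectRing U) (A.total.sectRing U) := h
    exact Module.FaithfullyFlat.of_linearEquiv _ _ e.symm.toLinearEquiv

theorem finite_iff (hA : A.IsQcoh) (U : Set X.pt) (hUa : (X.restrict U).IsAffine)
    (hφ : Module.FaithfullyFlat (X.sectRing U) ((q : ↥U) → X.ring q.1)) :
    (∀ q : X.pt, q ∈ U → Module.Finite (X.ring q) (A.carrier q)) ↔ (A.sectMap U).Finite := by
  letI := sectAlgebra A U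
  constructor
  · intro h
    letI (q : U) : Algebra (X.sectRing U) (X.ring q.1) := (X.evalRing U q).toAlgebra
    refine Descent.finite_of_forall (O := fun q : U => X.ring q.1) (A.total.sectRing U) fun q => ?_
    obtain ⟨e⟩ := exists_algEquiv A hA U hUa q
    haveI := h q.1 q.2
    exact Module.Finite.equiv e.symm.toLinearEquiv
  · intro h q hq
    letI := (X.evalRing U ⟨q, hq⟩).toAlgebra
    obtain ⟨e⟩ := exists_algEquiv A hA U hUa ⟨q, hq⟩
    haveI : Module.Finite (X.sectRing U) (A.total.sectRing U) := h
    exact Module.Finite.equiv e.toLinearEquiv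

theorem etale_iff (hA : A.IsQcoh) (U : Set X.pt) (hUa : (X.restrict U).IsAffine)
    (hφ : Module.FaithfullyFlat (X.sectRing U) ((q : ↥U) → X.ring q.1)) :
    (∀ q : X.pt, q ∈ U → Algebra.Etale (X.ring q) (A.carrier q)) ↔ (A.sectMap U).Etale := by
  letI := sectAlgebra A U
  constructor
  · intro h
    letI (q : U) : Algebra (X.sectRing U) (X.ring q.1) := (X.evalRing U q).toAlgebra
    refine Descent.etale_of_forall (O := fun q : U => X.ring q.1) (A.total.sectRing U) fun q => ?_
    obtain ⟨e⟩ := exists_algEquiv A hA U hUa q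
    haveI := h q.1 q.2
    exact Algebra.Etale.of_equiv e.symm
  · intro h q hq
    letI := (X.evalRing U ⟨q, hq⟩).toAlgebra
    obtain ⟨e⟩ := exists_algEquiv A hA U hUa ⟨q, hq⟩
    haveI : Algebra.Etale (X.sectRing U) (A.total.sectRing U) := h
    exact Algebra.Etale.of_equiv e

end Groth.Agent.SchFinLib
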