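import Groth.Agent.SchFinLib.Qcoh

/-!
The category of étale covers of a finite ringed poset.
-/

set_option autoImplicit false
set_option linter.style.haveILetI false
set_option linter.unusedSectionVars false
set_option linter.unusedVariables false
set_option backward.isDefEq.respectTransparency false

open TensorProduct CategoryTheory CategoryTheory.Limits

namespace Groth.Agent.SchFinLib.FEtCat

open SchFin

universe u

variable {X : RSpace.{u}}

lemma hom_ext {A B : FEt X} {f g : A ⟶ B} (h : ∀ p a, f.hom.app p a = g.hom.app p a) : f = g :=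
  InducedCategory.hom_ext (Alg.hom_ext _ _ fun p => AlgHom.ext (h p))

lemma comp_app {A B C : FEt X} (f : A ⟶ B) (g : B ⟶ C) (p : X.pt) (a : A.obj.carrier p) :
    (f ≫ g).hom.app p a = g.hom.app p (f.hom.app p a) := rfl

lemma id_app {A : FEt X} (p : X.pt) (a : A.obj.carrier p) : (𝟙 A : A ⟶ A).hom.app p a = a := rfl

lemma finite_carrier (A : FEt X) (p : X.pt) : Module.Finite (X.ring p) (A.obj.carrier p) := (A.property.2 p).1

lemma etale_carrier (A : FEt X) (p : X.pt) : Algebra.Etale (X.ring p) (A.obj.carrier p) := (A.property.2 p).2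

/-- The rings themselves. -/
noncomputable def one (X : RSpace.{u}) : FEt X := ⟨Alg.str X, QAlg.isEtCover_str X⟩

/-- The structure morphism. -/
noncomputable def fromOne (A : FEt X) : one X ⟶ A :=
  ObjectProperty.homMk (X := one X) (Y := A)
    ⟨fun p => Algebra.ofId (X.ring p) (A.obj.carrier p), fun h b => A.obj.res_algebraMap h b⟩

theorem hasInitial (X : RSpace.{u}) : HasInitial (FEt X) :=
  (IsInitial.ofUniqueHom (fun A => fromOne A) fun A m =>
    hom_ext fun p a => (m.hom.app p).commutes a).hasInitial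

/-- The zero algebra. -/
noncomputable def zero (X : RSpace.{u}) : FEt X := ⟨QAlg.zeroAlg X, QAlg.isEtCover_zeroAlg X⟩

/-- The morphism to the zero algebra. -/
noncomputable def toZero (A : FEt X) : A ⟶ zero X :=
  ObjectProperty.homMk (X := A) (Y := zero X)
    ⟨fun p => { toFun := fun _ => PUnit.unit, map_one' := rfl, map_mul' := fun _ _ => rfl, map_zero' := rfl,
                map_add' := fun _ _ => rfl, commutes' := fun _ => rfl }, fun _ _ => rfl⟩

theorem hasTerminal (X : RSpace.{u}) : HasTerminal (FEt X) :=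
  (IsTerminal.ofUniqueHom (fun A => toZero A) fun A m => hom_ext fun p a => rfl).hasTerminal

/-- A fan is a product when it is one at every point. -/
theorem nonempty_isLimit_binaryFan {A B D P : FEt X} (f : P ⟶ A) (g : P ⟶ B)
    (h : ∀ p, Function.Bijective fun x => (f.hom.app p x, g.hom.app p x)) :
    Nonempty (IsLimit (BinaryFan.mk f g)) := by
  let e (p : X.pt) : P.obj.carrier p ≃ₐ[X.ring p] A.obj.carrier p × B.obj.carrier p :=
    AlgEquiv.ofBijective ((f.hom.app p).prod (g.hom.app p)) (h p)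
  have he : ∀ (p : X.pt) (z : A.obj.carrier p × B.obj.carrier p),
      f.hom.app p ((e p).symm z) = z.1 ∧ g.hom.app p ((e p).symm z) = z.2 := fun p z =>
    ⟨congrArg Prod.fst ((e p).apply_symm_apply z), congrArg Prod.snd ((e p).apply_symm_apply z)⟩
  refine ⟨BinaryFan.IsLimit.mk _
    (fun {T} a b => ObjectProperty.homMk (X := T) (Y := P)
      ⟨fun p => (e p).symm.toAlgHom.comp ((a.hom.app p).prod (b.hom.app p)), fun {p q} hpq t => ?_⟩)
    (fun a b => hom_ext fun p t => (he p _).1) (fun a b => hom_ext fun p t => (he p _).2)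
    (fun a b m ha hb => hom_ext fun p t => (h p).1 (Prod.ext ?_ ?_))⟩
  · refine (h q).1 (Prod.ext ?_ ?_)
    · refine ((f.hom.compat hpq _).symm.trans ((congrArg (A.obj.res hpq) (he p _).1).trans ?_)).trans (he q _).1.symm
      exact a.hom.compat hpq t
    · refine ((g.hom.compat hpq _).symm.trans ((congrArg (B.obj.res hpq) (he p _).2).trans ?_)).trans (he q _).2.symm
      exact b.hom.compat hpq t
  · exact (congrArg (fun k => k.hom.app p t) ha).trans (he p (a.hom.app p t, b.hom.app p t)).1.symm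
  · exact (congrArg (fun k => k.hom.app p t) hb).trans (he p (a.hom.app p t, b.hom.app p t)).2.symm

/-- The product of two étale covers. -/
noncomputable def prod (A B : FEt X) : FEt X := ⟨QAlg.prod A.obj B.obj, QAlg.isEtCover_prod A.property B.property⟩

/-- First projection. -/
noncomputable def fst (A B : FEt X) : prod A B ⟶ A :=
  ObjectProperty.homMk (X := prod A B) (Y := A) ⟨fun p => AlgHom.fst _ _ _, fun _ _ => rfl⟩

/-- Second projection. -/
noncomputable def snd (A B : FEt X) : prod A B ⟶ B :=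
  ObjectProperty.homMk (X := prod A B) (Y := B) ⟨fun p => AlgHom.snd _ _ _, fun _ _ => rfl⟩

theorem prod_isLimit (A B : FEt X) : Nonempty (IsLimit (BinaryFan.mk (fst A B) (snd A B))) :=
  nonempty_isLimit_binaryFan (D := A) _ _ fun _ => Function.bijective_id

theorem hasBinaryProducts (X : RSpace.{u}) : HasBinaryProducts (FEt X) := by
  haveI : ∀ {A B : FEt X}, HasLimit (pair A B) := fun {A B} => ⟨⟨⟨_, (prod_isLimit A B).some⟩⟩⟩
  exact hasBinaryProducts_of_hasLimit_pair _

/-- The pushout. -/
noncomputable def push {A B C : FEt X} (f : A ⟶ B) (g : A ⟶ C) : FEt X :=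
  ⟨QAlg.pushout f.hom g.hom, QAlg.isEtCover_pushout f.hom g.hom A.property B.property C.property⟩

/-- The left leg. -/
noncomputable def pushInl {A B C : FEt X} (f : A ⟶ B) (g : A ⟶ C) : B ⟶ push f g :=
  ObjectProperty.homMk (X := B) (Y := push f g) (QAlg.inl f.hom g.hom)

/-- The right leg. -/
noncomputable def pushInr {A B C : FEt X} (f : A ⟶ B) (g : A ⟶ C) : C ⟶ push f g :=
  ObjectProperty.homMk (X := C) (Y := push f g) (QAlg.inr f.hom g.hom)

theorem push_w {A B C : FEt X} (f : A ⟶ B) (g : A ⟶ C) : f ≫ pushInl f g = g ≫ pushInr f g :=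
  hom_ext fun p a =>
    letI := (f.hom.app p).toRingHom.toAlgebra; letI := (g.hom.app p).toRingHom.toAlgebra
    tmul_algebraMap a

/-- The pushout cocone. -/
noncomputable def pushCocone {A B C : FEt X} (f : A ⟶ B) (g : A ⟶ C) : PushoutCocone f g :=
  PushoutCocone.mk _ _ (push_w f g)

theorem push_isColimit {A B C : FEt X} (f : A ⟶ B) (g : A ⟶ C) : Nonempty (IsColimit (pushCocone f g)) := by
  have key : ∀ {T : FEt X} (a : B ⟶ T) (b : C ⟶ T), f ≫ a = g ≫ b → ∀ p,
      ∃ L : (push f g).obj.carrier p →ₐ[X.ring p] T.obj.carrier p,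
        (∀ x, L ((pushInl f g).hom.app p x) = a.hom.app p x) ∧ ∀ x, L ((pushInr f g).hom.app p x) = b.hom.app p x := by
    intro T a b w p
    obtain ⟨L, h₁, h₂⟩ := QAlg.exists_pushout_lift f.hom g.hom (p := p) (a.hom.app p).toRingHom (b.hom.app p).toRingHom
      (fun x => congrArg (fun k => k.hom.app p x) w)
    refine ⟨{ L with commutes' := fun o => ?_ }, h₁, h₂⟩
    show L (algebraMap _ _ o) = _
    rw [← ((QAlg.inl f.hom g.hom).app p).commutes o]
    exact (h₁ _).trans ((a.hom.app p).commutes o)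
  choose L hL₁ hL₂ using @key
  refine ⟨PushoutCocone.IsColimit.mk _
    (fun s => ObjectProperty.homMk (X := push f g) (Y := s.pt) ⟨L s.inl s.inr s.condition, fun {p q} h b => ?_⟩)
    (fun s => hom_ext (hL₁ s.inl s.inr s.condition)) (fun s => hom_ext (hL₂ s.inl s.inr s.condition))
    (fun s m h₁ h₂ => hom_ext fun p x => ?_)⟩
  · refine RingHom.congr_fun (QAlg.pushout_hom_ext f.hom g.hom
      (F := (s.pt.obj.res h).comp (L s.inl s.inr s.condition p).toRingHom)
      (G := (L s.inl s.inr s.condition q).toRingHom.comp ((push f g).obj.res h)) (fun x => ?_) fun x => ?_) b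
    · show s.pt.obj.res h (L _ _ _ p ((pushInl f g).hom.app p x)) = L _ _ _ q ((push f g).obj.res h ((pushInl f g).hom.app p x))
      rw [(pushInl f g).hom.compat, hL₁, hL₁]
      exact s.inl.hom.compat h x
    · show s.pt.obj.res h (L _ _ _ p ((pushInr f g).hom.app p x)) = L _ _ _ q ((push f g).obj.res h ((pushInr f g).hom.app p x))
      rw [(pushInr f g).hom.compat, hL₂, hL₂]
      exact s.inr.hom.compat h x
  · refine RingHom.congr_fun (QAlg.pushout_hom_ext f.hom g.hom (F := (m.hom.app p).toRingHom)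
      (G := (L s.inl s.inr s.condition p).toRingHom) (fun y => ?_) fun y => ?_) x
    · exact (congrArg (fun k => k.hom.app p y) h₁).trans (hL₁ s.inl s.inr s.condition p y).symm
    · exact (congrArg (fun k => k.hom.app p y) h₂).trans (hL₂ s.inl s.inr s.condition p y).symm

theorem hasPushouts (X : RSpace.{u}) : HasPushouts (FEt X) := by
  haveI : ∀ {A B C : FEt X} {f : A ⟶ B} {g : A ⟶ C}, HasColimit (span f g) :=
    fun {A B C f g} => ⟨⟨⟨_, (push_isColimit f g).some⟩⟩⟩
  exact hasPushouts_of_hasColimit_span _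

theorem mono_of_injective {A B : FEt X} (f : A ⟶ B) (hf : ∀ p, Function.Injective (f.hom.app p)) : Mono f :=
  ⟨fun g h e => hom_ext fun p a => hf p (congrArg (fun k => k.hom.app p a) e)⟩

theorem epi_of_surjective {A B : FEt X} (f : A ⟶ B) (hf : ∀ p, Function.Surjective (f.hom.app p)) : Epi f :=
  ⟨fun g h e => hom_ext fun p a => by
    obtain ⟨a, rfl⟩ := hf p a
    exact congrArg (fun k => k.hom.app p a) e⟩

theorem isIso_of_bijective {A B : FEt X} (f : A ⟶ B) (hf : ∀ p, Function.Bijective (f.hom.app p)) : IsIso f := by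
  let e (p : X.pt) := AlgEquiv.ofBijective (f.hom.app p) (hf p)
  refine ⟨⟨ObjectProperty.homMk (X := B) (Y := A) ⟨fun p => (e p).symm.toAlgHom, fun {p q} h b => ?_⟩,
    hom_ext fun p a => (e p).symm_apply_apply a, hom_ext fun p a => (e p).apply_symm_apply a⟩⟩
  apply (hf q).1
  refine (f.hom.compat h _).symm.trans ?_
  exact (congrArg (B.obj.res h) ((e p).apply_symm_apply b)).trans ((e q).apply_symm_apply _).symm

/-- The kernel idempotents of a morphism form a compatible family. -/
theorem exists_kerIdem (hX : X.IsFinSp) {A B : FEt X} (f : A ⟶ B) :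
    ∃ r : ∀ p, A.obj.carrier p, (∀ p, r p * r p = r p) ∧ (∀ p q (h : p ≤ q), A.obj.res h (r p) = r q) ∧
      (∀ p, f.hom.app p (r p) = 0) ∧ ∀ p a, f.hom.app p a = 0 → a * r p = a := by
  have hex : ∀ p, ∃ r : A.obj.carrier p, r * r = r ∧ f.hom.app p r = 0 ∧ ∀ a, f.hom.app p a = 0 → a * r = a :=
    fun p => by
      haveI := finite_carrier A p; haveI := etale_carrier A p
      haveI := finite_carrier B p; haveI := etale_carrier B p
      exact EtAlg.exists_idempotent_ker_algHom (f.hom.app p)
  choose r hr₁ hr₂ hr₃ using hex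
  refine ⟨r, hr₁, fun p q h => ?_, hr₂, hr₃⟩
  letI := (X.res h).toAlgebra
  haveI : Module.Flat (X.ring p) (X.ring q) := hX.2 p q h
  have h0 : f.hom.app q (A.obj.res h (r p)) = 0 := by rw [← f.hom.compat, hr₂, map_zero]
  refine EtAlg.idempotent_unique (K := {a | f.hom.app q a = 0}) h0 (hr₂ q) (fun a ha => ?_) (hr₃ q)
  obtain ⟨w, rfl⟩ := ((QAlg.isQcoh_iff A.obj).mp A.property.1 p q h).2 a
  let m : A.obj.carrier p →ₗ[X.ring p] A.obj.carrier p := LinearMap.mulRight (X.ring p) (r p)
  have hexact : Function.Exact m (f.hom.app p).toLinearMap := by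
    intro x
    constructor
    · intro hx; exact ⟨x, hr₃ p x hx⟩
    · rintro ⟨y, rfl⟩
      show f.hom.app p (y * r p) = 0
      rw [map_mul, hr₂, mul_zero]
  have hw : (f.hom.app p).toLinearMap.lTensor (X.ring q) w = 0 := by
    apply ((QAlg.isQcoh_iff B.obj).mp B.property.1 p q h).1
    rw [map_zero]
    refine Eq.trans ?_ ha
    clear ha
    induction w using TensorProduct.induction_on with
    | zero => simp
    | tmul t x =>
      simp only [QAlg.bc, LinearMap.lTensor_tmul, tensorLift_tmul, AlgHom.toLinearMap_apply, map_mul, AlgHom.commutes]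
      rw [f.hom.compat]
    | add x y hx hy => simp only [map_add, hx, hy]
  obtain ⟨z, rfl⟩ := (Module.Flat.lTensor_exact (X.ring q) hexact w).mp hw
  have key : ∀ v, QAlg.bc A.obj h (m.lTensor (X.ring q) v) = QAlg.bc A.obj h v * A.obj.res h (r p) := fun v => by
    induction v using TensorProduct.induction_on with
    | zero => simp
    | tmul t x => simp [QAlg.bc, m, mul_assoc]
    | add x y hx hy => simp only [map_add, hx, hy, add_mul]
  rw [key, mul_assoc, ← map_mul, hr₁]

/-- Quotient of an étale cover by a compatible family of idempotents. -/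
noncomputable def quo (A : FEt X) (r : ∀ p, A.obj.carrier p) (hr₁ : ∀ p, r p * r p = r p)
    (hr : ∀ p q (h : p ≤ q), A.obj.res h (r p) = r q) : FEt X :=
  ⟨QAlg.quot A.obj r hr, QAlg.isEtCover_quot A.property r hr₁ hr⟩

/-- The quotient map. -/
noncomputable def quoMap (A : FEt X) (r : ∀ p, A.obj.carrier p) (hr₁ : ∀ p, r p * r p = r p)
    (hr : ∀ p q (h : p ≤ q), A.obj.res h (r p) = r q) : A ⟶ quo A r hr₁ hr :=
  ObjectProperty.homMk (X := A) (Y := quo A r hr₁ hr) ⟨fun p => Ideal.Quotient.mkₐ _ _, fun _ _ => rfl⟩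

lemma quoMap_surjective (A : FEt X) (r : ∀ p, A.obj.carrier p) (hr₁ : ∀ p, r p * r p = r p)
    (hr : ∀ p q (h : p ≤ q), A.obj.res h (r p) = r q) (p : X.pt) :
    Function.Surjective ((quoMap A r hr₁ hr).hom.app p) := Ideal.Quotient.mk_surjective

lemma quoMap_eq_zero_iff (A : FEt X) (r : ∀ p, A.obj.carrier p) (hr₁ : ∀ p, r p * r p = r p)
    (hr : ∀ p q (h : p ≤ q), A.obj.res h (r p) = r q) (p : X.pt) (a : A.obj.carrier p) :
    (quoMap A r hr₁ hr).hom.app p a = 0 ↔ a * r p = a := by
  refine Ideal.Quotient.eq_zero_iff_mem.trans ?_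
  constructor
  · intro h
    obtain ⟨c, rfl⟩ := Ideal.mem_span_singleton'.mp h
    rw [mul_assoc, hr₁]
  · intro h; rw [← h]; exact Ideal.mul_mem_left _ _ (Ideal.mem_span_singleton_self _)

/-- Factorization as a surjection followed by an injection, through a quotient. -/
theorem exists_factor {A B : FEt X} (f : A ⟶ B) (r : ∀ p, A.obj.carrier p) (hr₁ : ∀ p, r p * r p = r p)
    (hr : ∀ p q (h : p ≤ q), A.obj.res h (r p) = r q) (h0 : ∀ p, f.hom.app p (r p) = 0)
    (hker : ∀ p a, f.hom.app p a = 0 → a * r p = a) :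
    ∃ g : quo A r hr₁ hr ⟶ B, quoMap A r hr₁ hr ≫ g = f ∧ ∀ p, Function.Injective (g.hom.app p) := by
  refine ⟨ObjectProperty.homMk (X := quo A r hr₁ hr) (Y := B)
    ⟨fun p => Ideal.Quotient.liftₐ _ (f.hom.app p) fun a ha => ?_, fun {p q} h b => ?_⟩, hom_ext fun p a => rfl,
    fun p => ?_⟩
  · obtain ⟨c, rfl⟩ := Ideal.mem_span_singleton'.mp ha
    rw [map_mul, h0, mul_zero]
  · obtain ⟨b, rfl⟩ := Ideal.Quotient.mk_surjective b
    exact f.hom.compat h b
  · rw [injective_iff_map_eq_zero]
    intro a ha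
    obtain ⟨a, rfl⟩ := quoMap_surjective A r hr₁ hr p a
    exact (quoMap_eq_zero_iff A r hr₁ hr p a).mpr (hker p a ha)

theorem exists_factor_surjective_injective (hX : X.IsFinSp) {A B : FEt X} (f : A ⟶ B) :
    ∃ (Q : FEt X) (g : A ⟶ Q) (h : Q ⟶ B), g ≫ h = f ∧ (∀ p : X.pt, Function.Surjective (g.hom.app p)) ∧
      ∀ p : X.pt, Function.Injective (h.hom.app p) := by
  obtain ⟨r, hr₁, hr, h0, hker⟩ := exists_kerIdem hX f
  obtain ⟨g, hg, hg'⟩ := exists_factor f r hr₁ hr h0 hker
  exact ⟨_, _, g, hg, quoMap_surjective A r hr₁ hr, hg'⟩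

theorem injective_of_mono (hX : X.IsFinSp) {A B : FEt X} (f : A ⟶ B) [Mono f] (p : X.pt) :
    Function.Injective (f.hom.app p) := by
  obtain ⟨r, hr₁, hr, h0, hker⟩ := exists_kerIdem hX f
  let k : prod A A ⟶ A := ObjectProperty.homMk (X := prod A A) (Y := A)
    ⟨fun p =>
      { toFun := fun z => z.1 * (1 - r p) + z.2 * r p
        map_one' := by show 1 * (1 - r p) + 1 * r p = 1; ring
        map_mul' := fun z w => by
          show z.1 * w.1 * (1 - r p) + z.2 * w.2 * r p = (z.1 * (1 - r p) + z.2 * r p) * (w.1 * (1 - r p) + w.2 * r p)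
          have e := hr₁ p
          linear_combination (-(z.1 * w.1) + z.1 * w.2 + z.2 * w.1 - z.2 * w.2) * e
        map_zero' := by show 0 * (1 - r p) + 0 * r p = 0; ring
        map_add' := fun z w => by
          show (z.1 + w.1) * (1 - r p) + (z.2 + w.2) * r p = z.1 * (1 - r p) + z.2 * r p + (w.1 * (1 - r p) + w.2 * r p)
          ring
        commutes' := fun o => by
          show algebraMap (X.ring p) (A.obj.carrier p) o * (1 - r p) + algebraMap _ _ o * r p = algebraMap _ _ o
          ring },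
      fun {p q} h z => by
        show A.obj.res h (z.1 * (1 - r p) + z.2 * r p) = A.obj.res h z.1 * (1 - r q) + A.obj.res h z.2 * r q
        rw [map_add, map_mul, map_mul, map_sub, map_one, hr p q h]⟩
  have e : k = fst A A := by
    rw [← cancel_mono f]
    refine hom_ext fun p z => ?_
    show f.hom.app p (z.1 * (1 - r p) + z.2 * r p) = f.hom.app p z.1
    rw [map_add, map_mul, map_mul, map_sub, map_one, h0, sub_zero, mul_one, mul_zero, add_zero]
  have h1 : (0 : A.obj.carrier p) * (1 - r p) + 1 * r p = 0 := congrArg (fun m => m.hom.app p ((0, 1) : _ × _)) e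
  rw [zero_mul, zero_add, one_mul] at h1
  rw [injective_iff_map_eq_zero]
  intro a ha
  rw [← hker p a ha, h1, mul_zero]

theorem exists_isLimit_binaryFan (hX : X.IsFinSp) {A B : FEt X} (f : A ⟶ B)
    (hf : ∀ p : X.pt, Function.Surjective (f.hom.app p)) :
    ∃ (D : FEt X) (π : A ⟶ D), Nonempty (IsLimit (BinaryFan.mk f π)) := by
  obtain ⟨r, hr₁, hr, h0, hker⟩ := exists_kerIdem hX f
  have hs₁ : ∀ p, (1 - r p) * (1 - r p) = 1 - r p := fun p => by
    linear_combination hr₁ p
  have hs : ∀ p q (h : p ≤ q), A.obj.res h (1 - r p) = 1 - r q := fun p q h => by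
    rw [map_sub, map_one, hr p q h]
  refine ⟨_, quoMap A (fun p => 1 - r p) hs₁ hs, nonempty_isLimit_binaryFan (D := B) _ _ fun p => ⟨fun x y hxy => ?_, ?_⟩⟩
  · have h1 : f.hom.app p (x - y) = 0 := by
      rw [map_sub, sub_eq_zero]; exact congrArg Prod.fst hxy
    have h2 : (x - y) * (1 - r p) = x - y := (quoMap_eq_zero_iff A _ hs₁ hs p (x - y)).mp
      ((map_sub _ x y).trans (sub_eq_zero.mpr (congrArg Prod.snd hxy)))
    rw [mul_sub, mul_one, hker p _ h1, sub_self] at h2
    exact sub_eq_zero.mp h2.symm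
  · rintro ⟨b, d⟩
    obtain ⟨a, rfl⟩ := hf p b
    obtain ⟨c, rfl⟩ := quoMap_surjective A _ hs₁ hs p d
    refine ⟨a * (1 - r p) + c * r p, Prod.ext ?_ ?_⟩
    · show f.hom.app p (a * (1 - r p) + c * r p) = f.hom.app p a
      rw [map_add, map_mul, map_mul, map_sub, map_one, h0, sub_zero, mul_one, mul_zero, add_zero]
    · rw [← sub_eq_zero, ← map_sub, quoMap_eq_zero_iff]
      linear_combination (a - c) * hr₁ p

theorem isIso_of_injective_of_rank {A B : FEt X} (f : A ⟶ B) (hf : ∀ p : X.pt, Function.Injective (f.hom.app p))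
    (hdeg : ∀ (p : X.pt) (P : PrimeSpectrum (X.ring p)),
      Module.rankAtStalk (A.obj.carrier p) P = Module.rankAtStalk (B.obj.carrier p) P) : IsIso f :=
  isIso_of_bijective f fun p => by
    haveI := finite_carrier A p; haveI := etale_carrier A p
    haveI := finite_carrier B p; haveI := etale_carrier B p
    exact EtAlg.bijective_of_injective_of_rank _ (hf p) (hdeg p)

section invariants

variable (hX : X.IsFinSp)
  (hlt : ∀ A : FEt X, ∃ (B : Alg X) (n : ℕ), B.IsCovering ∧
      ∀ p : X.pt, Nonempty (TensorProduct (X.ring p) (B.carrier p) (A.obj.carrier p) ≃ₐ[B.carrier p] (Fin n → B.carrier p)))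

variable {ι : Type*} [Finite ι] (A : FEt X) (σ : ι → (A ⟶ A))

include hX hlt in
theorem isEtCover_fixed : (QAlg.fixed A.obj fun i => (σ i).hom).IsEtCover := by
  obtain ⟨B, n, hB, he⟩ := hlt A
  exact QAlg.isEtCover_fixed _ _ hX A.property fun p =>
    ⟨B.carrier p, inferInstance, inferInstance, n, (hB.2 p).2, he p⟩

/-- The fixed étale cover. -/
noncomputable def fixed : FEt X := ⟨QAlg.fixed A.obj fun i => (σ i).hom, isEtCover_fixed hX hlt A σ⟩

/-- The inclusion. -/
noncomputable def fixedIncl : fixed hX hlt A σ ⟶ A :=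
  ObjectProperty.homMk (X := fixed hX hlt A σ) (Y := A) (QAlg.fixedIncl A.obj fun i => (σ i).hom)

lemma fixedIncl_comp (i : ι) : fixedIncl hX hlt A σ ≫ σ i = fixedIncl hX hlt A σ :=
  hom_ext fun p a => a.2 i

lemma exists_fixed_lift {T : FEt X} (g : T ⟶ A) (hg : ∀ i, g ≫ σ i = g) :
    ∃ l : T ⟶ fixed hX hlt A σ, l ≫ fixedIncl hX hlt A σ = g :=
  ⟨ObjectProperty.homMk (X := T) (Y := fixed hX hlt A σ)
    ⟨fun p => (g.hom.app p).codRestrict _ fun t i => congrArg (fun k => k.hom.app p t) (hg i),
      fun h t => Subtype.ext (g.hom.compat h t)⟩, hom_ext fun _ _ => rfl⟩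

end invariants

variable {J : Type*} [Category J] [Unique J] [Finite ((default : J) ⟶ default)]

/-- The cone of invariants. -/
noncomputable def invCone (hX : X.IsFinSp)
    (hlt : ∀ A : FEt X, ∃ (B : Alg X) (n : ℕ), B.IsCovering ∧
      ∀ p : X.pt, Nonempty (TensorProduct (X.ring p) (B.carrier p) (A.obj.carrier p) ≃ₐ[B.carrier p] (Fin n → B.carrier p)))
    (F : J ⥤ FEt X) : Cone F where
  pt := fixed hX hlt (F.obj default) fun g : (default : J) ⟶ default => F.map g
  π :=
    { app := fun j => fixedIncl hX hlt (F.obj default) _ ≫ F.map (eqToHom (Unique.default_eq j))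
      naturality := fun j k g => by
        obtain rfl := Subsingleton.elim j default
        obtain rfl := Subsingleton.elim k default
        simp only [eqToHom_refl, CategoryTheory.Functor.map_id, Category.comp_id, Functor.const_obj_map, Category.id_comp]
        exact (fixedIncl_comp hX hlt (F.obj default) (fun g : (default : J) ⟶ default => F.map g) g).symm }

theorem invCone_isLimit (hX : X.IsFinSp)
    (hlt : ∀ A : FEt X, ∃ (B : Alg X) (n : ℕ), B.IsCovering ∧
      ∀ p : X.pt, Nonempty (TensorProduct (X.ring p) (B.carrier p) (A.obj.carrier p) ≃ₐ[B.carrier p] (Fin n → B.carrier p)))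
    (F : J ⥤ FEt X) : Nonempty (IsLimit (invCone hX hlt F)) := by
  have hl : ∀ s : Cone F, ∃ l : s.pt ⟶ (invCone hX hlt F).pt, l ≫ fixedIncl hX hlt (F.obj default) _ = s.π.app default :=
    fun s => exists_fixed_lift hX hlt (F.obj default) _ _ fun g => s.w g
  choose l hl using hl
  refine ⟨{ lift := l, fac := fun s j => ?_, uniq := fun s m hm => ?_ }⟩
  · obtain rfl := Subsingleton.elim j default
    simp only [invCone, eqToHom_refl, CategoryTheory.Functor.map_id, Category.comp_id]
    exact hl s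
  · have h := hm default
    simp only [invCone, eqToHom_refl, CategoryTheory.Functor.map_id, Category.comp_id] at h
    refine hom_ext fun p t => Subtype.ext ?_
    exact congrArg (fun k => k.hom.app p t) (h.trans (hl s).symm)

theorem hasLimitsOfShape_inv (hX : X.IsFinSp)
    (hlt : ∀ A : FEt X, ∃ (B : Alg X) (n : ℕ), B.IsCovering ∧
      ∀ p : X.pt, Nonempty (TensorProduct (X.ring p) (B.carrier p) (A.obj.carrier p) ≃ₐ[B.carrier p] (Fin n → B.carrier p))) :
    HasLimitsOfShape J (FEt X) :=
  ⟨fun F => ⟨⟨⟨_, (invCone_isLimit hX hlt F).some⟩⟩⟩⟩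

end Groth.Agent.SchFinLib.FEtCat
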