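import Groth.Agent.SchFinLib.Fix

/-!
Geometric points of finite étale algebras.
-/

set_option autoImplicit false
set_option linter.style.haveILetI false
set_option linter.unusedSectionVars false
set_option backward.isDefEq.respectTransparency false

open TensorProduct

namespace Groth.Agent.SchFinLib.Points

universe u

variable {O : Type u} [CommRing O] {A B : Type u} [CommRing A] [CommRing B] [Algebra O A] [Algebra O B]
  {Ω : Type u} [Field Ω] [Algebra O Ω]

/-- The extension of scalars of a point. -/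
noncomputable def ext (φ : A →ₐ[O] Ω) : Ω ⊗[O] A →ₐ[Ω] Ω :=
  Algebra.TensorProduct.lift (AlgHom.id Ω Ω) φ fun _ _ => Commute.all _ _

/-- The prime attached to a point. -/
noncomputable def pt (φ : A →ₐ[O] Ω) : PrimeSpectrum (Ω ⊗[O] A) :=
  ⟨RingHom.ker (ext φ).toRingHom, RingHom.ker_isPrime _⟩

lemma comap_pt (f : A →ₐ[O] B) (ψ : B →ₐ[O] Ω) :
    PrimeSpectrum.comap (Algebra.TensorProduct.map (AlgHom.id Ω Ω) f).toRingHom (pt ψ) = pt (ψ.comp f) := by
  refine PrimeSpectrum.ext ?_
  show (RingHom.ker (ext ψ).toRingHom).comap _ = RingHom.ker (ext (ψ.comp f)).toRingHom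
  rw [RingHom.comap_ker]
  congr 1
  refine RingHom.ext fun w => ?_
  induction w using TensorProduct.induction_on with
  | zero => simp
  | tmul t a => simp [ext]
  | add x y hx hy => rw [map_add, map_add, hx, hy]

theorem pt_injective : Function.Injective (pt : (A →ₐ[O] Ω) → PrimeSpectrum (Ω ⊗[O] A)) := by
  intro φ ψ h
  refine AlgHom.ext fun a => ?_
  have hk : RingHom.ker (ext φ).toRingHom = RingHom.ker (ext ψ).toRingHom := congrArg PrimeSpectrum.asIdeal h
  have h1 : ((1 : Ω) ⊗ₜ[O] a - φ a ⊗ₜ 1) ∈ RingHom.ker (ext φ).toRingHom := by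
    simp [RingHom.mem_ker, ext]
  rw [hk, RingHom.mem_ker] at h1
  simp [ext, sub_eq_zero] at h1
  exact h1.symm

theorem pt_surjective [IsAlgClosed Ω] [Module.Finite O A] :
    Function.Surjective (pt : (A →ₐ[O] Ω) → PrimeSpectrum (Ω ⊗[O] A)) := by
  intro P
  haveI : Module.Finite Ω (Ω ⊗[O] A) := inferInstance
  haveI : IsArtinianRing (Ω ⊗[O] A) := IsArtinianRing.of_finite Ω _
  haveI : P.asIdeal.IsMaximal := inferInstance
  haveI : Module.Finite Ω ((Ω ⊗[O] A) ⧸ P.asIdeal) :=
    Module.Finite.of_surjective (Ideal.Quotient.mkₐ Ω P.asIdeal).toLinearMap Ideal.Quotient.mk_surjective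
  let e : Ω ≃ₐ[Ω] (Ω ⊗[O] A) ⧸ P.asIdeal :=
    AlgEquiv.ofBijective (Algebra.ofId _ _) (IsAlgClosed.algebraMap_bijective_of_isIntegral)
  let χ : Ω ⊗[O] A →ₐ[Ω] Ω := e.symm.toAlgHom.comp (Ideal.Quotient.mkₐ Ω P.asIdeal)
  refine ⟨(χ.restrictScalars O).comp Algebra.TensorProduct.includeRight, PrimeSpectrum.ext ?_⟩
  have : ext ((χ.restrictScalars O).comp Algebra.TensorProduct.includeRight) = χ :=
    Algebra.TensorProduct.ext' fun t a => by
      have ht : χ (t ⊗ₜ 1) = t := χ.commutes t
      simp only [ext, Algebra.TensorProduct.lift_tmul, AlgHom.id_apply, AlgHom.comp_apply]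
      conv_rhs => rw [show (t ⊗ₜ[O] a : Ω ⊗[O] A) = (t ⊗ₜ 1) * (1 ⊗ₜ a) by
        rw [Algebra.TensorProduct.tmul_mul_tmul, mul_one, one_mul], map_mul, ht]
      rfl
  show RingHom.ker (ext _).toRingHom = P.asIdeal
  rw [this]
  ext x
  rw [RingHom.mem_ker]
  show e.symm (Ideal.Quotient.mk P.asIdeal x) = 0 ↔ _
  rw [map_eq_zero_iff e.symm e.symm.injective, Ideal.Quotient.eq_zero_iff_mem]

/-- The number of points of a finite étale algebra. -/
theorem card_primeSpectrum [IsAlgClosed Ω] [Module.Finite O A] [Algebra.Etale O A] :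
    Nat.card (PrimeSpectrum (Ω ⊗[O] A)) =
      Module.rankAtStalk A (PrimeSpectrum.comap (algebraMap O Ω) ⟨⊥, Ideal.isPrime_bot⟩) := by
  haveI := EtAlg.projective_of_finite_etale O A
  haveI : IsArtinianRing (Ω ⊗[O] A) := IsArtinianRing.of_finite Ω _
  haveI := Fintype.ofFinite (PrimeSpectrum (Ω ⊗[O] A))
  rw [← Module.rankAtStalk_baseChange, Module.rankAtStalk_eq_finrank_of_free, Pi.natCast_apply]
  rw [(Algebra.FormallyEtale.equivPiOfIsSepClosed Ω (Ω ⊗[O] A)).toLinearEquiv.finrank_eq, Module.finrank_pi,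
    Nat.card_eq_fintype_card]
  simp

/-- Injective maps of finite étale algebras are surjective on points. -/
theorem exists_extend [IsAlgClosed Ω] [Module.Finite O A] [Algebra.Etale O A] [Module.Finite O B]
    [Algebra.Etale O B] (f : A →ₐ[O] B) (hf : Function.Injective f) (φ : A →ₐ[O] Ω) :
    ∃ ψ : B →ₐ[O] Ω, ψ.comp f = φ := by
  letI := f.toRingHom.toAlgebra
  haveI : IsScalarTower O A B := IsScalarTower.of_algebraMap_eq fun x => (f.commutes x).symm
  haveI : Algebra.Etale A B := Algebra.Etale.of_restrictScalars O A B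
  haveI : Module.Finite A B := Module.Finite.of_restrictScalars_finite O A B
  haveI := EtAlg.projective_of_finite_etale A B
  haveI : Algebra.IsIntegral A B := Algebra.IsIntegral.of_finite A B
  haveI : FaithfulSMul A B := (faithfulSMul_iff_algebraMap_injective A B).mpr hf
  haveI : Module.FaithfullyFlat A B :=
    Module.FaithfullyFlat.of_comap_surjective (Algebra.IsIntegral.comap_surjective A B)
  letI := φ.toRingHom.toAlgebra
  haveI : Nontrivial (Ω ⊗[A] B) := Module.FaithfullyFlat.rTensor_nontrivial A B Ω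
  haveI : Module.Finite Ω (Ω ⊗[A] B) := inferInstance
  obtain ⟨m, hm⟩ := Ideal.exists_maximal (Ω ⊗[A] B)
  haveI : Module.Finite Ω ((Ω ⊗[A] B) ⧸ m) :=
    Module.Finite.of_surjective (Ideal.Quotient.mkₐ Ω m).toLinearMap Ideal.Quotient.mk_surjective
  let e : Ω ≃ₐ[Ω] (Ω ⊗[A] B) ⧸ m :=
    AlgEquiv.ofBijective (Algebra.ofId _ _) (IsAlgClosed.algebraMap_bijective_of_isIntegral)
  let χ : Ω ⊗[A] B →ₐ[Ω] Ω := e.symm.toAlgHom.comp (Ideal.Quotient.mkₐ Ω m)
  let ψ : B →ₐ[A] Ω := (χ.restrictScalars A).comp Algebra.TensorProduct.includeRight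
  refine ⟨{ ψ.toRingHom with commutes' := fun x => ?_ }, AlgHom.ext fun a => ψ.commutes a⟩
  show ψ (algebraMap O B x) = _
  rw [← f.commutes x]
  exact (ψ.commutes (algebraMap O A x)).trans (φ.commutes x)

/-- A point of a product factors through one of the factors. -/
theorem exists_prod (φ : A × B →ₐ[O] Ω) :
    (∃ α : A →ₐ[O] Ω, α.comp (AlgHom.fst O A B) = φ) ∨ ∃ β : B →ₐ[O] Ω, β.comp (AlgHom.snd O A B) = φ := by
  have he : φ (1, 0) * φ (1, 0) = φ (1, 0) := by
    rw [← map_mul]; congr 1; ext <;> simp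
  have hsum : φ (1, 0) + φ (0, 1) = 1 := by
    rw [← map_add, ← map_one φ]; congr 1; ext <;> simp
  rcases mul_eq_zero.mp (show φ (1, 0) * (φ (1, 0) - 1) = 0 by rw [mul_sub, he, mul_one, sub_self]) with h | h
  · right
    have h1 : φ (0, 1) = 1 := by rwa [h, zero_add] at hsum
    refine ⟨{ toFun := fun b => φ (0, b), map_one' := h1, map_mul' := fun a b => ?_, map_zero' := map_zero φ,
              map_add' := fun a b => ?_, commutes' := fun o => ?_ }, AlgHom.ext fun x => ?_⟩
    · rw [← map_mul]; congr 1; ext <;> simp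
    · rw [← map_add]; congr 1; ext <;> simp
    · rw [show ((0 : A), algebraMap O B o) = algebraMap O (A × B) o * (0, 1) by ext <;> simp,
        map_mul, h1, mul_one, φ.commutes]
    · show φ (0, x.2) = φ x
      calc φ (0, x.2) = φ (x * (0, 1)) := by congr 1; ext <;> simp
        _ = φ x := by rw [map_mul, h1, mul_one]
  · left
    have h1 : φ (1, 0) = 1 := sub_eq_zero.mp h
    refine ⟨{ toFun := fun a => φ (a, 0), map_one' := h1, map_mul' := fun a b => ?_, map_zero' := map_zero φ,
              map_add' := fun a b => ?_, commutes' := fun o => ?_ }, AlgHom.ext fun x => ?_⟩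
    · rw [← map_mul]; congr 1; ext <;> simp
    · rw [← map_add]; congr 1; ext <;> simp
    · rw [show (algebraMap O A o, (0 : B)) = algebraMap O (A × B) o * (1, 0) by ext <;> simp,
        map_mul, h1, mul_one, φ.commutes]
    · show φ (x.1, 0) = φ x
      calc φ (x.1, 0) = φ (x * (1, 0)) := by congr 1; ext <;> simp
        _ = φ x := by rw [map_mul, h1, mul_one]

theorem prod_ne (α : A →ₐ[O] Ω) (β : B →ₐ[O] Ω) : α.comp (AlgHom.fst O A B) ≠ β.comp (AlgHom.snd O A B) := by
  intro h
  have := AlgHom.congr_fun h (1, 0)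
  simp at this

end Groth.Agent.SchFinLib.Points
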