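import Groth.Agent.SchFinLib.FEt
import Groth.Agent.SchFinLib.Conn
import Groth.Agent.SchFinLib.Points

/-!
The fibre functor of étale covers of a finite ringed poset.
-/

set_option autoImplicit false
set_option linter.style.haveILetI false
set_option linter.unusedSectionVars false
set_option linter.unusedVariables false
set_option backward.isDefEq.respectTransparency false

open TensorProduct CategoryTheory CategoryTheory.Limits Opposite

namespace Groth.Agent.SchFinLib.Fib

open SchFin

universe u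

variable {X : RSpace.{u}} {Ω : Type u} [Field Ω] [IsAlgClosed Ω] (ξ : GeomPt X Ω)

/-- The field as an algebra over the ring of the base point. -/
@[reducible] noncomputable def ptAlg : Algebra (X.ring ξ.base) Ω := ξ.toField.toAlgebra

attribute [local instance] ptAlg

/-- Points of an étale cover over the geometric point. -/
abbrev Pts (A : FEt X) : Type u :=
  letI := ξ.toField.toAlgebra; A.obj.carrier ξ.base →ₐ[X.ring ξ.base] Ω

/-- The fibre is the set of points. -/
noncomputable def ptEquiv (A : FEt X) : Pts ξ A ≃ ξ.Fib A.obj :=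
  letI := ξ.toField.toAlgebra
  haveI := FEtCat.finite_carrier A ξ.base
  Equiv.ofBijective Points.pt ⟨Points.pt_injective, Points.pt_surjective⟩

lemma map_pt {A B : FEt X} (f : A ⟶ B) (ψ : Pts ξ B) :
    ξ.fibFunctor.map f.op (ptEquiv ξ B ψ) = ptEquiv ξ A (ψ.comp (f.hom.app ξ.base)) :=
  letI := ξ.toField.toAlgebra
  Points.comap_pt (f.hom.app ξ.base) ψ

theorem map_surjective {A B : FEt X} (f : A ⟶ B) (hf : ∀ p, Function.Injective (f.hom.app p))
    (y : ξ.fibFunctor.obj (op A)) : ∃ x, ξ.fibFunctor.map f.op x = y := by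
  letI := ξ.toField.toAlgebra
  haveI := FEtCat.finite_carrier A ξ.base; haveI := FEtCat.etale_carrier A ξ.base
  haveI := FEtCat.finite_carrier B ξ.base; haveI := FEtCat.etale_carrier B ξ.base
  obtain ⟨φ, rfl⟩ := (ptEquiv ξ A).surjective y
  obtain ⟨ψ, hψ⟩ := Points.exists_extend (f.hom.app ξ.base) (hf _) φ
  exact ⟨ptEquiv ξ B ψ, by rw [map_pt, hψ]⟩

theorem preservesEpimorphisms (hX : X.IsSchematic) : ξ.fibFunctor.PreservesEpimorphisms := by
  refine ⟨fun {A B} f _ => ?_⟩
  haveI : Mono f.unop := inferInstance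
  have hs := map_surjective ξ f.unop (FEtCat.injective_of_mono hX.1 f.unop)
  exact ⟨fun g h e => FintypeCat.hom_ext _ _ fun y => by
    obtain ⟨x, rfl⟩ := hs y
    exact ConcreteCategory.congr_hom e x⟩

/-- A binary fan on points. -/
theorem pts_prod {A B P : FEt X} (f : P ⟶ A) (g : P ⟶ B)
    (h : ∀ p, Function.Bijective fun x => (f.hom.app p x, g.hom.app p x)) (y : ξ.fibFunctor.obj (op P)) :
    ((∃ a, ξ.fibFunctor.map f.op a = y) ∨ ∃ b, ξ.fibFunctor.map g.op b = y) := by
  letI := ξ.toField.toAlgebra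
  obtain ⟨φ, rfl⟩ := (ptEquiv ξ P).surjective y
  let e := AlgEquiv.ofBijective ((f.hom.app ξ.base).prod (g.hom.app ξ.base)) (h ξ.base)
  rcases Points.exists_prod (φ.comp e.symm.toAlgHom) with ⟨α, hα⟩ | ⟨β, hβ⟩
  · refine Or.inl ⟨ptEquiv ξ A α, ?_⟩
    rw [map_pt]
    refine congrArg _ (AlgHom.ext fun x => ?_)
    exact (AlgHom.congr_fun hα (e x)).trans (congrArg φ (e.symm_apply_apply x))
  · refine Or.inr ⟨ptEquiv ξ B β, ?_⟩
    rw [map_pt]
    refine congrArg _ (AlgHom.ext fun x => ?_)
    exact (AlgHom.congr_fun hβ (e x)).trans (congrArg φ (e.symm_apply_apply x))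

theorem map_injective_of_surjective {A B : FEt X} (f : A ⟶ B) (hf : ∀ p, Function.Surjective (f.hom.app p)) :
    Function.Injective (ξ.fibFunctor.map f.op) := by
  letI := ξ.toField.toAlgebra
  intro x y h
  obtain ⟨φ, rfl⟩ := (ptEquiv ξ B).surjective x
  obtain ⟨ψ, rfl⟩ := (ptEquiv ξ B).surjective y
  rw [map_pt, map_pt] at h
  refine congrArg _ (AlgHom.ext fun b => ?_)
  obtain ⟨a, rfl⟩ := hf _ b
  exact AlgHom.congr_fun ((ptEquiv ξ A).injective h) a

theorem pts_prod_ne {A B P : FEt X} (f : P ⟶ A) (g : P ⟶ B)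
    (h : ∀ p, Function.Bijective fun x => (f.hom.app p x, g.hom.app p x))
    (a : ξ.fibFunctor.obj (op A)) (b : ξ.fibFunctor.obj (op B)) :
    ξ.fibFunctor.map f.op a ≠ ξ.fibFunctor.map g.op b := by
  letI := ξ.toField.toAlgebra
  obtain ⟨α, rfl⟩ := (ptEquiv ξ A).surjective a
  obtain ⟨β, rfl⟩ := (ptEquiv ξ B).surjective b
  rw [map_pt, map_pt]
  intro e
  refine Points.prod_ne α β (AlgHom.ext fun z => ?_)
  obtain ⟨x, rfl⟩ := (h ξ.base).2 z
  exact AlgHom.congr_fun ((ptEquiv ξ P).injective e) x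

instance preservesTerminal : PreservesLimitsOfShape (Discrete PEmpty.{1}) ξ.fibFunctor := by
  letI := ξ.toField.toAlgebra
  have ht : IsTerminal (op (FEtCat.one X)) :=
    IsTerminal.ofUniqueHom (fun A => (FEtCat.fromOne A.unop).op) fun A m =>
      Quiver.Hom.unop_inj (FEtCat.hom_ext fun p a => (m.unop.hom.app p).commutes a)
  have hu : ∀ z : ξ.fibFunctor.obj (op (FEtCat.one X)), z = ptEquiv ξ (FEtCat.one X) (Algebra.ofId _ _) := by
    intro z
    obtain ⟨φ, rfl⟩ := (ptEquiv ξ (FEtCat.one X)).surjective z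
    exact congrArg _ (AlgHom.ext fun a => φ.commutes a)
  have ht' : IsTerminal (ξ.fibFunctor.obj (op (FEtCat.one X))) :=
    IsTerminal.ofUniqueHom (fun T => FintypeCat.homMk fun _ => ptEquiv ξ (FEtCat.one X) (Algebra.ofId _ _))
      fun T m => FintypeCat.hom_ext _ _ fun x => hu _
  haveI : PreservesLimit (Functor.empty.{0} (FEt X)ᵒᵖ) ξ.fibFunctor :=
    preservesLimit_of_preserves_limit_cone ht ((isLimitMapConeEmptyConeEquiv _ _).symm ht')
  exact preservesLimitsOfShape_pempty_of_preservesTerminal ξ.fibFunctor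

theorem preservesLimit_cospan {A B C : (FEt X)ᵒᵖ} (f : A ⟶ C) (g : B ⟶ C) :
    PreservesLimit (cospan f g) ξ.fibFunctor := by
  letI := ξ.toField.toAlgebra
  have hp : IsPushout g.unop f.unop (FEtCat.pushInl g.unop f.unop) (FEtCat.pushInr g.unop f.unop) :=
    IsPushout.of_isColimit (FEtCat.push_isColimit g.unop f.unop).some
  have hpb : IsPullback (FEtCat.pushInr g.unop f.unop).op (FEtCat.pushInl g.unop f.unop).op f g := hp.op
  refine preservesLimit_of_preserves_limit_cone hpb.isLimit ((PullbackCone.isLimitMapConeEquiv _ _).symm ?_)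
  set L := FEtCat.pushInl g.unop f.unop
  set R := FEtCat.pushInr g.unop f.unop
  have hex : ∀ (a : ξ.fibFunctor.obj A) (b : ξ.fibFunctor.obj B),
      ξ.fibFunctor.map f a = ξ.fibFunctor.map g b →
      ∃ z, ξ.fibFunctor.map R.op z = a ∧ ξ.fibFunctor.map L.op z = b := by
    intro a b e
    obtain ⟨α, rfl⟩ := (ptEquiv ξ A.unop).surjective a
    obtain ⟨β, rfl⟩ := (ptEquiv ξ B.unop).surjective b
    have e' : α.comp (f.unop.hom.app ξ.base) = β.comp (g.unop.hom.app ξ.base) :=
      (ptEquiv ξ C.unop).injective ((map_pt ξ f.unop α).symm.trans (e.trans (map_pt ξ g.unop β)))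
    obtain ⟨M, h₁, h₂⟩ := QAlg.exists_pushout_lift g.unop.hom f.unop.hom (p := ξ.base) β.toRingHom α.toRingHom
      (fun x => (AlgHom.congr_fun e' x).symm)
    refine ⟨ptEquiv ξ (FEtCat.push g.unop f.unop) { M with commutes' := fun o => ?_ }, ?_, ?_⟩
    · show M (algebraMap _ _ o) = _
      rw [← ((QAlg.inl g.unop.hom f.unop.hom).app ξ.base).commutes o]
      exact (h₁ _).trans (β.commutes o)
    · rw [map_pt]; exact congrArg _ (AlgHom.ext h₂)
    · rw [map_pt]; exact congrArg _ (AlgHom.ext h₁)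
  have hinj : ∀ z w, ξ.fibFunctor.map R.op z = ξ.fibFunctor.map R.op w →
      ξ.fibFunctor.map L.op z = ξ.fibFunctor.map L.op w → z = w := by
    intro z w h₁ h₂
    obtain ⟨φ, rfl⟩ := (ptEquiv ξ (FEtCat.push g.unop f.unop)).surjective z
    obtain ⟨ψ, rfl⟩ := (ptEquiv ξ (FEtCat.push g.unop f.unop)).surjective w
    rw [map_pt, map_pt] at h₁ h₂
    refine congrArg _ (AlgHom.coe_ringHom_injective
      (QAlg.pushout_hom_ext g.unop.hom f.unop.hom (fun x => ?_) fun x => ?_))
    · exact AlgHom.congr_fun ((ptEquiv ξ B.unop).injective h₂) x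
    · exact AlgHom.congr_fun ((ptEquiv ξ A.unop).injective h₁) x
  choose z hz₁ hz₂ using hex
  exact PullbackCone.IsLimit.mk _
    (fun s => FintypeCat.homMk fun t => z (s.fst t) (s.snd t) (ConcreteCategory.congr_hom s.condition t))
    (fun s => FintypeCat.hom_ext _ _ fun t => hz₁ _ _ _) (fun s => FintypeCat.hom_ext _ _ fun t => hz₂ _ _ _)
    (fun s m h₁ h₂ => FintypeCat.hom_ext _ _ fun t =>
      hinj _ _ ((ConcreteCategory.congr_hom h₁ t).trans (hz₁ _ _ _).symm)
        ((ConcreteCategory.congr_hom h₂ t).trans (hz₂ _ _ _).symm))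

instance preservesPullbacks : PreservesLimitsOfShape WalkingCospan ξ.fibFunctor :=
  ⟨fun {K} => by
    haveI := preservesLimit_cospan ξ (K.map WalkingCospan.Hom.inl) (K.map WalkingCospan.Hom.inr)
    exact preservesLimit_of_iso_diagram ξ.fibFunctor (diagramIsoCospan K).symm⟩

theorem preservesColimit_pair (A B : (FEt X)ᵒᵖ) : PreservesColimit (pair A B) ξ.fibFunctor := by
  classical
  let f := FEtCat.fst A.unop B.unop
  let g := FEtCat.snd A.unop B.unop
  have hbij : ∀ p, Function.Bijective fun x => (f.hom.app p x, g.hom.app p x) := fun _ => Function.bijective_id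
  have hc : IsColimit (BinaryCofan.mk f.op g.op) :=
    BinaryFan.IsLimit.op (FEtCat.prod_isLimit A.unop B.unop).some
  refine preservesColimit_of_preserves_colimit_cocone hc ((isColimitMapCoconeBinaryCofanEquiv _ _ _).symm ?_)
  have hf := map_injective_of_surjective ξ f fun p b => ⟨(b, 0), rfl⟩
  have hg := map_injective_of_surjective ξ g fun p b => ⟨(0, b), rfl⟩
  refine BinaryCofan.IsColimit.mk _ (fun {T} a b => FintypeCat.homMk fun y =>
      if h : ∃ x, ξ.fibFunctor.map f.op x = y then a h.choose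
      else b ((pts_prod ξ f g hbij y).resolve_left h).choose)
    (fun a b => FintypeCat.hom_ext _ _ fun x => ?_) (fun a b => FintypeCat.hom_ext _ _ fun x => ?_)
    (fun a b m ha hb => FintypeCat.hom_ext _ _ fun y => ?_)
  · have h : ∃ x', ξ.fibFunctor.map f.op x' = ξ.fibFunctor.map f.op x := ⟨x, rfl⟩
    refine (dif_pos h).trans ?_
    rw [hf h.choose_spec]
    rfl
  · have h : ¬ ∃ x', ξ.fibFunctor.map f.op x' = ξ.fibFunctor.map g.op x := fun ⟨x', h⟩ =>
      pts_prod_ne ξ f g hbij x' x h
    refine (dif_neg h).trans ?_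
    rw [hg ((pts_prod ξ f g hbij (ξ.fibFunctor.map g.op x)).resolve_left h).choose_spec]
    rfl
  · by_cases h : ∃ x, ξ.fibFunctor.map f.op x = y
    · refine Eq.trans ?_ (dif_pos h).symm
      conv_lhs => rw [← h.choose_spec]
      exact ConcreteCategory.congr_hom ha _
    · refine Eq.trans ?_ (dif_neg h).symm
      conv_lhs => rw [← ((pts_prod ξ f g hbij y).resolve_left h).choose_spec]
      exact ConcreteCategory.congr_hom hb _

instance preservesInitial : PreservesColimit (Functor.empty.{0} (FEt X)ᵒᵖ) ξ.fibFunctor := by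
  letI := ξ.toField.toAlgebra
  have hi : IsInitial (op (FEtCat.zero X)) :=
    IsInitial.ofUniqueHom (fun A => (FEtCat.toZero A.unop).op) fun A m =>
      Quiver.Hom.unop_inj (FEtCat.hom_ext fun p a => rfl)
  haveI he : IsEmpty (ξ.fibFunctor.obj (op (FEtCat.zero X))) := by
    refine ⟨fun y => ?_⟩
    obtain ⟨φ, rfl⟩ := (ptEquiv ξ (FEtCat.zero X)).surjective y
    exact one_ne_zero (α := Ω) (by rw [← map_one φ, ← map_zero φ]; exact congrArg φ rfl)
  exact preservesColimit_of_preserves_colimit_cocone hi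
    ((isColimitMapCoconeEmptyCoconeEquiv _ _).symm
      (IsInitial.ofUniqueHom (fun T => FintypeCat.homMk fun y => he.elim y)
        fun T m => FintypeCat.hom_ext _ _ fun y => he.elim y))

instance preservesFiniteCoproducts : PreservesFiniteCoproducts ξ.fibFunctor := by
  haveI : HasFiniteProducts (FEt X) := by
    haveI := FEtCat.hasTerminal X
    haveI := FEtCat.hasBinaryProducts X
    exact hasFiniteProducts_of_has_binary_and_terminal
  haveI : PreservesColimitsOfShape (Discrete WalkingPair) ξ.fibFunctor := ⟨fun {K} => by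
    haveI := preservesColimit_pair ξ (K.obj ⟨WalkingPair.left⟩) (K.obj ⟨WalkingPair.right⟩)
    exact preservesColimit_of_iso_diagram ξ.fibFunctor (diagramIsoPair K).symm⟩
  haveI : PreservesColimitsOfShape (Discrete PEmpty.{1}) ξ.fibFunctor :=
    preservesColimitsOfShape_pempty_of_preservesInitial ξ.fibFunctor
  exact ⟨fun n => preservesShape_fin_of_preserves_binary_and_initial ξ.fibFunctor n⟩

/-- Ranks of étale covers are constant. -/
theorem rank_eq (hwc : X.IsWellConnected) (A : FEt X) (p q : X.pt) (P : PrimeSpectrum (X.ring p))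
    (Q : PrimeSpectrum (X.ring q)) :
    Module.rankAtStalk (A.obj.carrier p) P = Module.rankAtStalk (A.obj.carrier q) Q := by
  obtain ⟨⟨-, hconn⟩, hp⟩ := isWellConnected_iff.mp hwc
  have hloc : ∀ (p : X.pt) (P Q : PrimeSpectrum (X.ring p)),
      Module.rankAtStalk (A.obj.carrier p) P = Module.rankAtStalk (A.obj.carrier p) Q := fun p P Q => by
    haveI := FEtCat.finite_carrier A p; haveI := FEtCat.etale_carrier A p
    haveI := EtAlg.projective_of_finite_etale (X.ring p) (A.obj.carrier p)
    haveI : Module.FinitePresentation (X.ring p) (A.obj.carrier p) := Module.finitePresentation_of_projective _ _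
    haveI := (hp p).toPreconnectedSpace
    exact Module.isLocallyConstant_rankAtStalk.apply_eq_of_preconnectedSpace P Q
  induction hconn p q with
  | rel x y h =>
    letI := (X.res h).toAlgebra
    haveI := FEtCat.finite_carrier A x; haveI := FEtCat.etale_carrier A x
    haveI := EtAlg.projective_of_finite_etale (X.ring x) (A.obj.carrier x)
    let b : X.ring y ⊗[X.ring x] A.obj.carrier x →ₗ[X.ring y] A.obj.carrier y :=
      { toFun := QAlg.bc A.obj h, map_add' := map_add _, map_smul' := fun t w => by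
          induction w using TensorProduct.induction_on with
          | zero => simp
          | tmul s a => simp [QAlg.bc, TensorProduct.smul_tmul', Algebra.smul_def, mul_assoc]
          | add x y hx hy => simp only [smul_add, map_add, hx, hy, RingHom.id_apply] }
    let e := LinearEquiv.ofBijective b ((QAlg.isQcoh_iff A.obj).mp A.property.1 x y h)
    rw [← Module.rankAtStalk_eq_of_equiv e, Module.rankAtStalk_baseChange]
    exact hloc x _ _
  | refl x => exact hloc x P Q
  | symm x y _ ih => exact (ih Q P).symm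
  | trans x y z _ _ i1 i2 =>
    haveI := (hp y).toNonempty
    obtain ⟨R⟩ := (hp y).toNonempty
    exact (i1 P R).trans (i2 R Q)

theorem card_fib (A : FEt X) :
    Nat.card (ξ.fibFunctor.obj (op A)) =
      Module.rankAtStalk (A.obj.carrier ξ.base) (PrimeSpectrum.comap ξ.toField ⟨⊥, Ideal.isPrime_bot⟩) := by
  letI := ξ.toField.toAlgebra
  haveI := FEtCat.finite_carrier A ξ.base; haveI := FEtCat.etale_carrier A ξ.base
  exact Points.card_primeSpectrum (Ω := Ω)

theorem reflectsIsomorphisms (hX : X.IsSchematic) (hwc : X.IsWellConnected) :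
    ξ.fibFunctor.ReflectsIsomorphisms := by
  refine ⟨fun {A B} f _ => ?_⟩
  have hbij : Function.Bijective (ξ.fibFunctor.map f) :=
    (FintypeCat.equivEquivIso.symm (asIso (ξ.fibFunctor.map f))).bijective
  obtain ⟨r, hr₁, hr, h0, hker⟩ := FEtCat.exists_kerIdem hX.1 f.unop
  have hs₁ : ∀ p, (1 - r p) * (1 - r p) = 1 - r p := fun p => by linear_combination hr₁ p
  have hs : ∀ p q (h : p ≤ q), B.unop.obj.res h (1 - r p) = 1 - r q := fun p q h => by
    rw [map_sub, map_one, hr p q h]
  let D := FEtCat.quo B.unop (fun p => 1 - r p) hs₁ hs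
  let π := FEtCat.quoMap B.unop (fun p => 1 - r p) hs₁ hs
  haveI hempty : IsEmpty (ξ.fibFunctor.obj (op D)) := by
    refine ⟨fun d => ?_⟩
    obtain ⟨φ, rfl⟩ := (ptEquiv ξ D).surjective d
    obtain ⟨x, hx⟩ := hbij.2 (ξ.fibFunctor.map π.op (ptEquiv ξ D φ))
    obtain ⟨ψ, rfl⟩ := (ptEquiv ξ A.unop).surjective x
    have e := (ptEquiv ξ B.unop).injective ((map_pt ξ f.unop ψ).symm.trans (hx.trans (map_pt ξ π φ)))
    have e1 := AlgHom.congr_fun e (r ξ.base)
    have hz : π.hom.app ξ.base (1 - r ξ.base) = 0 := (FEtCat.quoMap_eq_zero_iff B.unop _ hs₁ hs _ _).mpr (hs₁ _)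
    rw [map_sub, map_one, sub_eq_zero] at hz
    have ha : ψ.comp (f.unop.hom.app ξ.base) (r ξ.base) = 0 := (congrArg ψ (h0 _)).trans (map_zero ψ)
    have hb : φ.comp (π.hom.app ξ.base) (r ξ.base) = 1 := (congrArg φ hz.symm).trans (map_one φ)
    exact zero_ne_one (ha.symm.trans (e1.trans hb))
  have hD : ∀ p, Subsingleton (D.obj.carrier p) := fun p => by
    haveI := FEtCat.finite_carrier D p; haveI := FEtCat.etale_carrier D p
    haveI := EtAlg.projective_of_finite_etale (X.ring p) (D.obj.carrier p)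
    rw [← Module.rankAtStalk_eq_zero_iff_subsingleton (R := X.ring p)]
    funext P
    rw [rank_eq hwc D p ξ.base P (PrimeSpectrum.comap ξ.toField ⟨⊥, Ideal.isPrime_bot⟩), ← card_fib]
    exact Nat.card_of_isEmpty
  have hinj : ∀ p, Function.Injective (f.unop.hom.app p) := fun p => by
    haveI := hD p
    have h1 : π.hom.app p 1 = 0 := Subsingleton.elim _ _
    have h2 := (FEtCat.quoMap_eq_zero_iff B.unop _ hs₁ hs p 1).mp h1
    rw [injective_iff_map_eq_zero]
    intro a ha
    rw [one_mul, sub_eq_self] at h2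
    rw [← hker p a ha, h2, mul_zero]
  haveI : IsIso f.unop := FEtCat.isIso_of_injective_of_rank f.unop hinj fun p P => by
    rw [rank_eq hwc B.unop p ξ.base P (PrimeSpectrum.comap ξ.toField ⟨⊥, Ideal.isPrime_bot⟩),
      rank_eq hwc A.unop p ξ.base P (PrimeSpectrum.comap ξ.toField ⟨⊥, Ideal.isPrime_bot⟩),
      ← card_fib, ← card_fib]
    exact (Nat.card_eq_of_bijective _ hbij).symm
  exact inferInstanceAs (IsIso f.unop.op)

end Groth.Agent.SchFinLib.Fib
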