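import Groth.Agent.SchFinLib.Fib

/-!
The Galois category of étale covers of a finite ringed poset.
-/

set_option autoImplicit false
set_option linter.style.haveILetI false
set_option linter.unusedSectionVars false
set_option linter.unusedVariables false
set_option backward.isDefEq.respectTransparency false

open TensorProduct CategoryTheory CategoryTheory.Limits Opposite

namespace Groth.Agent.SchFinLib.Galois

open SchFin

universe u

variable {X : RSpace.{u}}

instance uniqueSingleObjOp (G : Type*) : Unique (SingleObj G)ᵒᵖ :=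
  ⟨⟨op (SingleObj.star G)⟩, fun _ => rfl⟩

instance finiteHomSingleObjOp (G : Type*) [Group G] [Finite G] :
    Finite ((default : (SingleObj G)ᵒᵖ) ⟶ default) :=
  Finite.of_equiv G (Quiver.Hom.opEquiv (V := SingleObj G) (X := SingleObj.star G) (Y := SingleObj.star G))

variable (hX : X.IsSchematic)
  (hlt : ∀ A : FEt X, ∃ (B : Alg X) (n : ℕ), B.IsCovering ∧
      ∀ p : X.pt, Nonempty (TensorProduct (X.ring p) (B.carrier p) (A.obj.carrier p) ≃ₐ[B.carrier p] (Fin n → B.carrier p)))

include hX hlt in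
theorem hasColimitsOfShape_quotient (G : Type u) [Group G] [Finite G] :
    HasColimitsOfShape (SingleObj G) (FEt X)ᵒᵖ := by
  refine ⟨fun K => ?_⟩
  exact ⟨⟨⟨_, isColimitCoconeOfConeLeftOp K (FEtCat.invCone_isLimit hX.1 hlt K.leftOp).some⟩⟩⟩

variable {Ω : Type u} [Field Ω] [IsAlgClosed Ω] (ξ : GeomPt X Ω)

attribute [local instance] Fib.ptAlg

/-- Points of the invariants are the orbits. -/
theorem quotient_points (G : Type u) [Group G] [Finite G] (K : SingleObj G ⥤ (FEt X)ᵒᵖ) :
    let c := coconeOfConeLeftOp (FEtCat.invCone hX.1 hlt K.leftOp)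
    Function.Surjective (ξ.fibFunctor.map (c.ι.app (SingleObj.star G))) ∧
      ∀ x y, ξ.fibFunctor.map (c.ι.app (SingleObj.star G)) x = ξ.fibFunctor.map (c.ι.app (SingleObj.star G)) y →
        ∃ g : SingleObj.star G ⟶ SingleObj.star G, ξ.fibFunctor.map (K.map g) x = y := by
  intro c
  let A : FEt X := K.leftOp.obj default
  let τ := fun g : (default : (SingleObj G)ᵒᵖ) ⟶ default => K.leftOp.map g
  have hι : c.ι.app (SingleObj.star G) = (FEtCat.fixedIncl hX.1 hlt A τ).op := by
    show (FEtCat.fixedIncl hX.1 hlt A τ ≫ K.leftOp.map (eqToHom (Unique.default_eq (op (SingleObj.star G))))).op = _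
    exact congrArg Quiver.Hom.op (by
      rw [show eqToHom (Unique.default_eq (op (SingleObj.star G))) = 𝟙 _ from rfl, CategoryTheory.Functor.map_id,
        Category.comp_id])
  rw [hι]
  refine ⟨fun y => Fib.map_surjective ξ _ (fun p => Subtype.val_injective) y, fun x y hxy => ?_⟩
  obtain ⟨φ, rfl⟩ := (Fib.ptEquiv ξ A).surjective x
  obtain ⟨ψ, rfl⟩ := (Fib.ptEquiv ξ A).surjective y
  have hres := (Fib.ptEquiv ξ _).injective ((Fib.map_pt ξ (FEtCat.fixedIncl hX.1 hlt A τ) φ).symm.trans
    (hxy.trans (Fib.map_pt ξ (FEtCat.fixedIncl hX.1 hlt A τ) ψ)))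
  let σ : G → A.obj.carrier ξ.base →ₐ[X.ring ξ.base] A.obj.carrier ξ.base := fun g =>
    (τ (Quiver.Hom.op (g⁻¹ : SingleObj.star G ⟶ SingleObj.star G))).hom.app ξ.base
  have hmul : ∀ g h a, σ g (σ h a) = σ (g * h) a := by
    intro g h a
    show (τ _).hom.app ξ.base ((τ _).hom.app ξ.base a) = (τ _).hom.app ξ.base a
    rw [← FEtCat.comp_app]
    simp only [τ, ← CategoryTheory.Functor.map_comp, ← op_comp]
    congr 4
    rw [SingleObj.comp_as_mul, ← mul_inv_rev]
  have h1 : ∀ a, σ 1 a = a := by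
    intro a
    show (τ _).hom.app ξ.base a = a
    have : (Quiver.Hom.op ((1 : G)⁻¹ : SingleObj.star G ⟶ SingleObj.star G)) = 𝟙 (default : (SingleObj G)ᵒᵖ) := by
      rw [inv_one]; rfl
    simp only [τ, this, CategoryTheory.Functor.map_id]
    rfl
  haveI := FEtCat.finite_carrier A ξ.base
  have hagree : ∀ a ∈ Fix.fix σ, φ a = ψ a := by
    intro a ha
    have hfix : ∀ i, (τ i).hom.app ξ.base a = a := fun i => by
      have h2 := ha (i.unop : G)⁻¹
      simp only [σ, inv_inv] at h2
      exact h2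
    exact AlgHom.congr_fun hres (⟨a, hfix⟩ : (FEtCat.fixed hX.1 hlt A τ).obj.carrier ξ.base)
  obtain ⟨g, hg⟩ := Fix.exists_comp_eq σ hmul φ ψ hagree h1
  refine ⟨(g⁻¹ : G), ?_⟩
  show ξ.fibFunctor.map (τ (Quiver.Hom.op (g⁻¹ : SingleObj.star G ⟶ SingleObj.star G))).op _ = _
  rw [Fib.map_pt, hg]

include hX hlt in
theorem preservesQuotients (G : Type u) [Group G] [Finite G] :
    PreservesColimitsOfShape (SingleObj G) ξ.fibFunctor := by
  refine ⟨fun {K} => ?_⟩
  let c := coconeOfConeLeftOp (FEtCat.invCone hX.1 hlt K.leftOp)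
  refine preservesColimit_of_preserves_colimit_cocone
    (isColimitCoconeOfConeLeftOp K (FEtCat.invCone_isLimit hX.1 hlt K.leftOp).some) ?_
  obtain ⟨hsurj, hsep⟩ := quotient_points hX hlt ξ G K
  have hobj : ∀ j, j = SingleObj.star G := fun j => rfl
  refine { desc := fun s => FintypeCat.homMk fun y => s.ι.app (SingleObj.star G) (hsurj y).choose,
           fac := fun s j => ?_, uniq := fun s m hm => ?_ }
  · obtain rfl := hobj j
    refine FintypeCat.hom_ext _ _ fun x => ?_
    show s.ι.app (SingleObj.star G) (hsurj (ξ.fibFunctor.map (c.ι.app (SingleObj.star G)) x)).choose = _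
    obtain ⟨g, hg⟩ := hsep _ _ (hsurj (ξ.fibFunctor.map (c.ι.app (SingleObj.star G)) x)).choose_spec
    refine Eq.trans ?_ (congrArg (s.ι.app (SingleObj.star G)) hg)
    exact (ConcreteCategory.congr_hom (s.w g) _).symm
  · refine FintypeCat.hom_ext _ _ fun y => ?_
    show m y = s.ι.app (SingleObj.star G) (hsurj y).choose
    exact (congrArg m (hsurj y).choose_spec).symm.trans (ConcreteCategory.congr_hom (hm (SingleObj.star G)) _)

theorem exists_galois (hwc : X.IsWellConnected)
    (hepi : ∀ (A B : FEt X) (f : A ⟶ B), Epi f → ∀ p : X.pt, Function.Surjective (f.hom.app p))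
    (hX : X.IsSchematic)
    (hlt : ∀ A : FEt X, ∃ (B : Alg X) (n : ℕ), B.IsCovering ∧
      ∀ p : X.pt, Nonempty (TensorProduct (X.ring p) (B.carrier p) (A.obj.carrier p) ≃ₐ[B.carrier p] (Fin n → B.carrier p))) :
    ∃ h : PreGaloisCategory (FEt X)ᵒᵖ, @PreGaloisCategory.FiberFunctor (FEt X)ᵒᵖ _ h ξ.fibFunctor := by
  haveI := FEtCat.hasInitial X
  haveI := FEtCat.hasPushouts X
  haveI := FEtCat.hasTerminal X
  haveI := FEtCat.hasBinaryProducts X
  haveI : HasFiniteProducts (FEt X) := hasFiniteProducts_of_has_binary_and_terminal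
  haveI hG : PreGaloisCategory (FEt X)ᵒᵖ :=
    { hasQuotientsByFiniteGroups := fun G _ _ => hasColimitsOfShape_quotient hX hlt G
      monoInducesIsoOnDirectSummand := fun {A B} i _ => by
        obtain ⟨D, π, ⟨hl⟩⟩ := FEtCat.exists_isLimit_binaryFan hX.1 i.unop
          (hepi _ _ i.unop inferInstance)
        exact ⟨op D, π.op, ⟨BinaryFan.IsLimit.op hl⟩⟩ }
  exact ⟨hG,
    { preservesTerminalObjects := Fib.preservesTerminal ξ
      preservesPullbacks := Fib.preservesPullbacks ξ
      preservesFiniteCoproducts := Fib.preservesFiniteCoproducts ξ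
      preservesEpis := Fib.preservesEpimorphisms ξ hX
      preservesQuotientsByFiniteGroups := fun G _ _ => preservesQuotients hX hlt ξ G
      reflectsIsos := Fib.reflectsIsomorphisms ξ hX hwc }⟩

end Groth.Agent.SchFinLib.Galois
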