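import Mathlib
import Groth.Prelude.Def_SchFin2

/-!
Degree zero of the standard complex on a finite ringed poset, and the degree zero consequences of
the schematic condition.
-/

set_option autoImplicit false
set_option backward.isDefEq.respectTransparency false

open TensorProduct

namespace Groth.Agent.SchFinLib

open SchFin

universe u

variable {X : RSpace.{u}} {U : Set X.pt} {R : Type u} [CommRing R]

/-- The one-element chain at a point. -/
def pchain (q : U) : Chain U 0 :=
  OrderEmbedding.ofStrictMono (fun _ => q) (fun i j h => absurd h (by omega))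

lemma chain_zero_eq (σ : Chain U 0) : σ = pchain (σ (Fin.last 0)) := by
  refine RelEmbedding.ext fun i => ?_
  rw [show i = Fin.last 0 from Fin.ext (by omega)]
  rfl

variable (φ : Coef X U R)

lemma diff_zero_apply (c : Cochain φ X.str 0) (σ : Chain U 1) :
    diff φ X.str 0 c σ = c.faceVal σ 0 - c.faceVal σ 1 := by
  change (∑ j : Fin 2, ((-1 : ℤ) ^ (j : ℕ)) • c.faceVal σ j) = _
  rw [Fin.sum_univ_two]
  simp [sub_eq_add_neg]

lemma res_chain_congr (c : Cochain φ X.str 0) {τ₁ τ₂ : Chain U 0} (e : τ₁ = τ₂) {t : X.pt}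
    (h₁ : (τ₁ (Fin.last 0)).1 ≤ t) (h₂ : (τ₂ (Fin.last 0)).1 ≤ t) :
    X.res h₁ (c τ₁) = X.res h₂ (c τ₂) := by
  subst e
  rfl

/-- The coefficient map into sections. -/
def toSect : R →+* X.sectRing U where
  toFun r := ⟨fun q => φ.map q r, fun q q' h => φ.compat q q' h r⟩
  map_one' := by ext q; exact map_one _
  map_mul' a b := by ext q; exact map_mul _ a b
  map_zero' := by ext q; exact map_zero _
  map_add' a b := by ext q; exact map_add _ a b

lemma cocycle_zero_compat (c : Cochain φ X.str 0) (hc : diff φ X.str 0 c = 0) (q q' : U) (h : q.1 ≤ q'.1) :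
    X.res h (c (pchain q)) = c (pchain q') := by
  rcases (show q ≤ q' from h).lt_or_eq with hlt | heq
  · let σ : Chain U 1 := OrderEmbedding.ofStrictMono ![q, q'] (Fin.strictMono_iff_lt_succ.mpr fun i => by
      fin_cases i; exact hlt)
    have h1 : c.faceVal σ 0 - c.faceVal σ 1 = 0 := (diff_zero_apply φ c σ).symm.trans (congrFun hc σ)
    rw [sub_eq_zero] at h1
    have e0 := res_chain_congr φ c (chain_zero_eq (σ.face 0)) (Chain.face_last_le 0 σ)
      (show ((pchain q') (Fin.last 0)).1 ≤ q'.1 from le_rfl)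
    have e1 := res_chain_congr φ c (chain_zero_eq (σ.face 1)) (Chain.face_last_le 1 σ)
      (show ((pchain q) (Fin.last 0)).1 ≤ q'.1 from h)
    exact e1.symm.trans (h1.symm.trans (e0.trans (X.res_self _ _)))
  · subst heq
    exact X.res_self _ _

/-- The section attached to a degree zero cocycle. -/
def ofCocycle : cocycles φ X.str 0 →+ X.sectRing U where
  toFun c := ⟨fun q => c.1 (pchain q), fun q q' h => cocycle_zero_compat φ c.1 c.2 q q' h⟩
  map_zero' := rfl
  map_add' _ _ := rfl

lemma ofCocycle_smul (r : R) (c : cocycles φ X.str 0) :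
    ofCocycle φ (r • c) = toSect φ r * ofCocycle φ c := rfl

lemma ofCocycle_bijective : Function.Bijective (ofCocycle φ) := by
  refine ⟨fun c c' h => ?_, fun s => ?_⟩
  · refine Subtype.ext (funext fun σ => ?_)
    have := congrArg (fun s : X.sectRing U => s.1 (σ (Fin.last 0))) h
    rw [chain_zero_eq σ]
    exact this
  · refine ⟨⟨fun σ => s.1 (σ (Fin.last 0)), ?_⟩, Subtype.ext rfl⟩
    rw [cocycles, LinearMap.mem_ker]
    funext σ
    refine (diff_zero_apply φ _ σ).trans ?_
    change X.res _ _ - X.res _ _ = (0 : X.ring _)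
    rw [sub_eq_zero]
    exact (s.2 _ _ (Chain.face_last_le 0 σ)).trans (s.2 _ _ (Chain.face_last_le 1 σ)).symm

/-- Degree zero cohomology of the rings is the ring of sections. -/
noncomputable def h0Equiv : H φ X.str 0 ≃+ X.sectRing U :=
  let e : (↥(cocycles φ X.str 0) ⧸ (cobdry φ X.str 0).comap (cocycles φ X.str 0).subtype) ≃+
      cocycles φ X.str 0 :=
    (Submodule.quotEquivOfEqBot _ (by
      rw [eq_bot_iff]
      intro x hx
      exact Subtype.ext ((Submodule.mem_bot R).mp hx))).toAddEquiv
  e.trans (AddEquiv.ofBijective (ofCocycle φ) (ofCocycle_bijective φ))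

lemma h0Equiv_mk (c : cocycles φ X.str 0) : h0Equiv φ (H.mk φ X.str 0 c) = ofCocycle φ c := rfl

lemma H_mk_surjective (M : OMod X) (n : ℕ) : Function.Surjective (H.mk φ M n) :=
  Submodule.mkQ_surjective _

lemma h0Equiv_smul (r : R) (x : H φ X.str 0) : h0Equiv φ (r • x) = toSect φ r * h0Equiv φ x := by
  obtain ⟨c, rfl⟩ := H_mk_surjective φ X.str 0 x
  rw [← map_smul]
  rfl

variable (X) in
/-- Restriction of sections. -/
def sectRes {U U' : Set X.pt} (h : U' ⊆ U) : X.sectRing U →+* X.sectRing U' where
  toFun s := ⟨fun q => s.1 ⟨q.1, h q.2⟩, fun q q' hq => s.2 ⟨q.1, h q.2⟩ ⟨q'.1, h q'.2⟩ hq⟩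
  map_one' := rfl
  map_mul' _ _ := rfl
  map_zero' := rfl
  map_add' _ _ := rfl

variable {φ} {U' : Set X.pt} {S : Type u} [CommRing S] {φ' : Coef X U' S}

lemma h0Equiv_resH (s : Coef.Sub φ φ') (x : H φ X.str 0) :
    h0Equiv φ' (resH X.str s 0 x) = sectRes X s.le (h0Equiv φ x) := by
  obtain ⟨c, rfl⟩ := H_mk_surjective φ X.str 0 x
  refine Subtype.ext (funext fun q => ?_)
  change c.1 (Chain.incl s.le (pchain q)) = c.1 (pchain ⟨q.1, s.le q.2⟩)
  congr 1

/-- The map `S ⊗ sections U → sections U'` attached to a change of coefficients. -/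
noncomputable def bcMap (s : Coef.Sub φ φ') :
    letI := s.hom.toAlgebra; letI := (toSect φ).toAlgebra
    S ⊗[R] X.sectRing U →+ X.sectRing U' :=
  letI := s.hom.toAlgebra; letI := (toSect φ).toAlgebra
  TensorProduct.liftAddHom
    { toFun := fun t =>
        { toFun := fun z => toSect φ' t * sectRes X s.le z
          map_zero' := by rw [map_zero, mul_zero]
          map_add' := fun _ _ => by rw [map_add, mul_add] }
      map_zero' := AddMonoidHom.ext fun z => by
        change toSect φ' 0 * _ = 0; rw [map_zero, zero_mul]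
      map_add' := fun a b => AddMonoidHom.ext fun z => by
        change toSect φ' (a + b) * _ = toSect φ' a * _ + toSect φ' b * _; rw [map_add, add_mul] }
    (fun r t z => by
      change toSect φ' (s.hom r * t) * sectRes X s.le z = toSect φ' t * sectRes X s.le (toSect φ r * z)
      rw [map_mul, map_mul]
      have : toSect φ' (s.hom r) = sectRes X s.le (toSect φ r) :=
        Subtype.ext (funext fun q => s.compat q r)
      rw [this]; ring)

lemma bcMap_tmul (s : Coef.Sub φ φ') (t : S) (z : X.sectRing U) :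
    letI := s.hom.toAlgebra; letI := (toSect φ).toAlgebra
    bcMap s (t ⊗ₜ[R] z) = toSect φ' t * sectRes X s.le z := rfl

/-- Degree zero base change in terms of sections. -/
theorem isBCAlong_zero_iff (s : Coef.Sub φ φ') :
    IsBCAlong s.hom (resH X.str s 0) ↔ Function.Bijective (bcMap s) := by
  letI := s.hom.toAlgebra
  letI := (toSect φ).toAlgebra
  letI : Module R (H φ' X.str 0) := Module.compHom _ s.hom
  haveI : IsScalarTower R S (H φ' X.str 0) := IsScalarTower.of_algebraMap_smul fun _ _ => rfl
  let f : H φ X.str 0 →ₗ[R] H φ' X.str 0 :=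
    { toFun := resH X.str s 0, map_add' := (resH X.str s 0).map_add,
      map_smul' := (resH X.str s 0).map_smulₛₗ }
  show IsBaseChange S f ↔ _
  let L : S ⊗[R] H φ X.str 0 →ₗ[R] H φ' X.str 0 :=
    TensorProduct.lift ((((Algebra.linearMap S <| Module.End S (H φ X.str 0 →ₗ[R] H φ' X.str 0)).flip f)).restrictScalars R)
  show Function.Bijective L ↔ _
  let e : H φ X.str 0 ≃ₗ[R] X.sectRing U :=
    { h0Equiv φ with map_smul' := fun r x => h0Equiv_smul φ r x }
  have key : ∀ w, h0Equiv φ' (L w) = bcMap s (LinearEquiv.lTensor S e w) := by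
    intro w
    induction w using TensorProduct.induction_on with
    | zero => simp
    | tmul t z =>
      rw [LinearEquiv.lTensor_tmul, bcMap_tmul]
      show h0Equiv φ' (t • resH X.str s 0 z) = _
      rw [h0Equiv_smul, h0Equiv_resH]
      rfl
    | add a b ha hb => simp only [map_add, ha, hb]
  have hcomp : (bcMap s : S ⊗[R] X.sectRing U → X.sectRing U') =
      h0Equiv φ' ∘ L ∘ (LinearEquiv.lTensor S e).symm := by
    funext w
    rw [Function.comp_apply, Function.comp_apply, key, LinearEquiv.apply_symm_apply]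
  rw [hcomp]
  rw [Function.Bijective.of_comp_iff' (h0Equiv φ').bijective,
    Function.Bijective.of_comp_iff _ (LinearEquiv.lTensor S e).symm.bijective]

end Groth.Agent.SchFinLib
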