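import Mathlib
import Groth.Agent.WLocalLib.EtaleProd

/-!
Finite étale algebras: kernels generated by idempotents and related facts.
-/

set_option autoImplicit false
set_option linter.style.haveILetI false
set_option backward.isDefEq.respectTransparency false

open TensorProduct

namespace Groth.Agent.SchFinLib.EtAlg

universe u

/-- The kernel of a finite projective algebra is generated by an idempotent. -/
theorem exists_idempotent_ker {A B : Type*} [CommRing A] [CommRing B] [Algebra A B]
    [Module.Finite A B] [Module.Projective A B] :
    ∃ r : A, r * r = r ∧ algebraMap A B r = 0 ∧ ∀ a, algebraMap A B a = 0 → a * r = a := by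
  obtain ⟨n, f, g, hf, hg, hfg⟩ := Module.Finite.exists_comp_eq_id_of_projective A B
  let e : Fin n → B := fun l => f (Pi.single l 1)
  have hdec : ∀ v : Fin n → A, f v = ∑ l, v l • e l := fun v => by
    conv_lhs => rw [show v = ∑ l, v l • (Pi.single l (1 : A) : Fin n → A) from funext fun j => by simp [Pi.single_apply]]
    simp [map_sum, e]
  have hfg' : ∀ b, f (g b) = b := fun b => LinearMap.congr_fun hfg b
  let I : Ideal A := Ideal.span (Set.range fun p : Fin n × Fin n => g (e p.1) p.2)
  have hmem : ∀ b j, g b j ∈ I := fun b j => by
    obtain ⟨v, rfl⟩ := hf b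
    rw [hdec, map_sum, Finset.sum_apply]
    refine I.sum_mem fun l _ => ?_
    rw [map_smul, Pi.smul_apply, smul_eq_mul]
    exact I.mul_mem_left _ (Ideal.subset_span ⟨(l, j), rfl⟩)
  have hle : (⊤ : Submodule A B) ≤ I • ⊤ := fun b _ => by
    rw [← hfg' b, hdec]
    exact Submodule.sum_mem _ fun l _ => Submodule.smul_mem_smul (hmem b l) Submodule.mem_top
  obtain ⟨r, hr, hr0⟩ := Submodule.exists_sub_one_mem_and_smul_eq_zero_of_fg_of_le_smul I ⊤ Module.Finite.fg_top hle
  have hr1 : algebraMap A B r = 0 := by rw [Algebra.algebraMap_eq_smul_one]; exact hr0 1 trivial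
  have key : ∀ a, algebraMap A B a = 0 → a * r = a := fun a ha => by
    have hz : ∀ x ∈ I, a * x = 0 := fun x hx => by
      induction hx using Submodule.span_induction with
      | mem y hy =>
        obtain ⟨p, rfl⟩ := hy
        show a * g (e p.1) p.2 = 0
        rw [show a * g (e p.1) p.2 = g (a • e p.1) p.2 by rw [map_smul]; rfl, Algebra.smul_def, ha, zero_mul, map_zero]
        rfl
      | zero => rw [mul_zero]
      | add y z _ _ hy hz => rw [mul_add, hy, hz, add_zero]
      | smul c y _ hy => rw [smul_eq_mul, mul_left_comm, hy, mul_zero]
    have := hz (r - 1) hr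
    rwa [mul_sub, mul_one, sub_eq_zero] at this
  exact ⟨r, key r hr1, hr1, key⟩

variable {O : Type u} [CommRing O] {A B : Type u} [CommRing A] [CommRing B] [Algebra O A] [Algebra O B]

theorem projective_of_finite_etale (R S : Type u) [CommRing R] [CommRing S] [Algebra R S]
    [Module.Finite R S] [Algebra.Etale R S] : Module.Projective R S := by
  haveI : Module.FinitePresentation R S := Module.FinitePresentation.of_finite_of_finitePresentation R S
  exact Module.Flat.projective_of_finitePresentation

/-- A map between finite étale algebras is finite étale, with kernel generated by an idempotent. -/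
theorem exists_idempotent_ker_algHom [Module.Finite O A] [Algebra.Etale O A] [Module.Finite O B] [Algebra.Etale O B]
    (f : A →ₐ[O] B) : ∃ r : A, r * r = r ∧ f r = 0 ∧ ∀ a, f a = 0 → a * r = a := by
  letI := f.toRingHom.toAlgebra
  haveI : IsScalarTower O A B := IsScalarTower.of_algebraMap_eq fun x => (f.commutes x).symm
  haveI : Algebra.Etale A B := Algebra.Etale.of_restrictScalars O A B
  haveI : Module.Finite A B := Module.Finite.of_restrictScalars_finite O A B
  haveI := projective_of_finite_etale A B
  exact exists_idempotent_ker

/-- Uniqueness of an idempotent generator. -/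
theorem idempotent_unique {A : Type*} [CommRing A] {K : Set A} {r r' : A} (hr : r ∈ K) (hr' : r' ∈ K)
    (h : ∀ a ∈ K, a * r = a) (h' : ∀ a ∈ K, a * r' = a) : r = r' := by
  rw [← h' r hr, mul_comm, h r' hr']

theorem etale_quotient_idempotent [Algebra.Etale O A] {r : A} (hr : r * r = r) :
    Algebra.Etale O (A ⧸ Ideal.span {r}) := by
  haveI : IsLocalization.Away (1 - r) (A ⧸ Ideal.span {r}) := by
    refine IsLocalization.away_of_isIdempotentElem (IsIdempotentElem.one_sub hr) ?_ Ideal.Quotient.mk_surjective
    rw [Ideal.Quotient.algebraMap_eq, Ideal.mk_ker, sub_sub_cancel]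
  haveI : Algebra.Etale A (A ⧸ Ideal.span {r}) := Algebra.Etale.of_isLocalizationAway (1 - r)
  exact Algebra.Etale.comp O A (A ⧸ Ideal.span {r})

theorem etale_tensor {C : Type u} [CommRing C] [Algebra O C] [Algebra.Etale O A] [Algebra.Etale O B]
    [Algebra.Etale O C] [Algebra A B] [IsScalarTower O A B] [Algebra A C] [IsScalarTower O A C] :
    Algebra.Etale O (B ⊗[A] C) := by
  haveI : Algebra.Etale A C := Algebra.Etale.of_restrictScalars O A C
  exact Algebra.Etale.comp O B (B ⊗[A] C)

theorem finite_tensor {C : Type u} [CommRing C] [Algebra O C] [Module.Finite O B] [Module.Finite O C]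
    [Algebra A B] [IsScalarTower O A B] [Algebra A C] [IsScalarTower O A C] :
    Module.Finite O (B ⊗[A] C) := by
  haveI : Module.Finite A C := Module.Finite.of_restrictScalars_finite O A C
  exact Module.Finite.trans B (B ⊗[A] C)

theorem etale_subsingleton (T : Type u) [CommRing T] [Algebra O T] [Subsingleton T] : Algebra.Etale O T := by
  haveI : IsLocalization.Away (0 : O) T := by
    refine IsLocalization.away_of_isIdempotentElem IsIdempotentElem.zero ?_ (fun t => ⟨0, Subsingleton.elim _ _⟩)
    rw [sub_zero, Ideal.span_singleton_one]
    exact Ideal.ext fun x => ⟨fun _ => trivial, fun _ => RingHom.mem_ker.mpr (Subsingleton.elim _ _)⟩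
  exact Algebra.Etale.of_isLocalizationAway (0 : O)

/-- An injective map of finite étale algebras of equal ranks is bijective. -/
theorem bijective_of_injective_of_rank [Module.Finite O A] [Algebra.Etale O A]
    [Module.Finite O B] [Algebra.Etale O B] (f : A →ₐ[O] B) (hf : Function.Injective f)
    (hrank : ∀ P : PrimeSpectrum O, Module.rankAtStalk A P = Module.rankAtStalk B P) : Function.Bijective f := by
  refine ⟨hf, ?_⟩
  letI := f.toRingHom.toAlgebra
  haveI : IsScalarTower O A B := IsScalarTower.of_algebraMap_eq fun x => (f.commutes x).symm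
  haveI : Algebra.Etale A B := Algebra.Etale.of_restrictScalars O A B
  haveI : Module.Finite A B := Module.Finite.of_restrictScalars_finite O A B
  haveI := projective_of_finite_etale A B
  haveI := projective_of_finite_etale O A
  haveI := projective_of_finite_etale O B
  haveI : Algebra.IsIntegral A B := Algebra.IsIntegral.of_finite A B
  haveI : FaithfulSMul A B := (faithfulSMul_iff_algebraMap_injective A B).mpr hf
  haveI : Module.FaithfullyFlat A B :=
    Module.FaithfullyFlat.of_comap_surjective (Algebra.IsIntegral.comap_surjective A B)
  rw [← AlgHom.coe_toLinearMap, ← LinearMap.range_eq_top, ← Submodule.Quotient.subsingleton_iff,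
    ← Module.support_eq_empty_iff (R := O), Set.eq_empty_iff_forall_notMem]
  intro P hP
  rw [Module.mem_support_iff_nontrivial_residueField_tensorProduct] at hP
  let K := P.asIdeal.ResidueField
  have hinj' : Function.Injective (f.toLinearMap.rTensor K) := by
    let e := AlgebraTensorModule.cancelBaseChange O A B B K
    have key : ∀ x, f.toLinearMap.rTensor K x = e ((1 : B) ⊗ₜ[A] x) := fun x => by
      induction x using TensorProduct.induction_on with
      | zero => simp
      | tmul a k =>
        rw [LinearMap.rTensor_tmul, AlgebraTensorModule.cancelBaseChange_tmul, Algebra.smul_def, mul_one]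
        rfl
      | add x y hx hy => rw [map_add, TensorProduct.tmul_add, map_add, hx, hy]
    intro x y hxy
    rw [key, key] at hxy
    exact Module.FaithfullyFlat.tensorProduct_mk_injective (A := A) (B := B) (A ⊗[O] K) (e.injective hxy)
  have hinj : Function.Injective (f.toLinearMap.baseChange K) := by
    intro x y hxy
    have h : ∀ z, TensorProduct.comm O K B (f.toLinearMap.baseChange K z) =
        f.toLinearMap.rTensor K (TensorProduct.comm O K A z) := fun z => by
      induction z using TensorProduct.induction_on with
      | zero => simp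
      | tmul k a => rfl
      | add x y hx hy => rw [map_add, map_add, hx, hy, map_add, map_add]
    apply (TensorProduct.comm O K A).injective
    apply hinj'
    rw [← h, ← h, hxy]
  have hdim : Module.finrank K (K ⊗[O] A) = Module.finrank K (K ⊗[O] B) := by
    rw [← Module.rankAtStalk_eq, ← Module.rankAtStalk_eq]
    exact hrank P
  have hsurj := (LinearMap.injective_iff_surjective_of_finrank_eq_finrank hdim).mp hinj
  rw [← not_subsingleton_iff_nontrivial] at hP
  refine hP (subsingleton_of_forall_eq 0 fun w => ?_)
  obtain ⟨w, rfl⟩ := LinearMap.lTensor_surjective K (Submodule.mkQ_surjective (LinearMap.range f.toLinearMap)) w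
  obtain ⟨z, hz⟩ := hsurj w
  rw [← hz, show f.toLinearMap.baseChange K z = f.toLinearMap.lTensor K z from rfl, ← LinearMap.lTensor_comp_apply,
    LinearMap.range_mkQ_comp, LinearMap.lTensor_zero, LinearMap.zero_apply]

end Groth.Agent.SchFinLib.EtAlg
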