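import Groth.Agent.SchFinLib.EtAlg
import Groth.Agent.SchFinLib.Descent

/-!
Fixed points of finitely many endomorphisms of a finite étale algebra.
-/

set_option autoImplicit false
set_option linter.style.haveILetI false
set_option linter.unusedSectionVars false
set_option backward.isDefEq.respectTransparency false

open TensorProduct

namespace Groth.Agent.SchFinLib.Fix

universe u

variable {O : Type u} [CommRing O] {A : Type u} [CommRing A] [Algebra O A] {ι : Type*}

/-- The subalgebra fixed by a family of endomorphisms. -/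
def fix (σ : ι → A →ₐ[O] A) : Subalgebra O A where
  carrier := {a | ∀ i, σ i a = a}
  mul_mem' {a b} ha hb i := by rw [map_mul, ha i, hb i]
  one_mem' i := map_one _
  add_mem' {a b} ha hb i := by rw [map_add, ha i, hb i]
  zero_mem' i := map_zero _
  algebraMap_mem' r i := (σ i).commutes r

lemma mem_fix {σ : ι → A →ₐ[O] A} {a : A} : a ∈ fix σ ↔ ∀ i, σ i a = a := Iff.rfl

/-- The map whose kernel is the fixed subalgebra. -/
noncomputable def diff (σ : ι → A →ₐ[O] A) : A →ₗ[O] (ι → A) :=
  LinearMap.pi fun i => (σ i).toLinearMap - LinearMap.id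

lemma exact_diff (σ : ι → A →ₐ[O] A) : Function.Exact (fix σ).val.toLinearMap (diff σ) := by
  intro a
  constructor
  · intro h
    exact ⟨⟨a, fun i => sub_eq_zero.mp (congrFun h i)⟩, rfl⟩
  · rintro ⟨x, rfl⟩
    funext i
    exact sub_eq_zero.mpr (x.2 i)

lemma lTensor_fix_injective (T : Type u) [CommRing T] [Algebra O T] [Module.Flat O T] (σ : ι → A →ₐ[O] A) :
    Function.Injective ((fix σ).val.toLinearMap.lTensor T) :=
  Module.Flat.lTensor_preserves_injective_linearMap _ Subtype.val_injective

/-- Fixed vectors commute with flat base change. -/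
theorem mem_range_lTensor_iff [Finite ι] (T : Type u) [CommRing T] [Algebra O T] [Module.Flat O T]
    (σ : ι → A →ₐ[O] A) (w : T ⊗[O] A) :
    w ∈ LinearMap.range ((fix σ).val.toLinearMap.lTensor T) ↔ ∀ i, (σ i).toLinearMap.lTensor T w = w := by
  classical
  haveI := Fintype.ofFinite ι
  rw [LinearMap.mem_range, ← Set.mem_range, ← Module.Flat.lTensor_exact T (exact_diff σ) w,
    ← (TensorProduct.piRight O O T (fun _ : ι => A)).map_eq_zero_iff, funext_iff]
  refine forall_congr' fun i => ?_
  have h : ∀ v : T ⊗[O] A, TensorProduct.piRight O O T (fun _ : ι => A) ((diff σ).lTensor T v) i =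
      (σ i).toLinearMap.lTensor T v - v := fun v => by
    induction v using TensorProduct.induction_on with
    | zero => simp
    | tmul t a =>
      rw [LinearMap.lTensor_tmul, TensorProduct.piRight_apply, TensorProduct.piRightHom_tmul, LinearMap.lTensor_tmul]
      exact TensorProduct.tmul_sub t _ _
    | add x y hx hy => simp only [map_add, Pi.add_apply, hx, hy]; abel
  rw [h, Pi.zero_apply, sub_eq_zero]

/-- Base change of the inclusion of the fixed subalgebra. -/
noncomputable def bcVal (T : Type u) [CommRing T] [Algebra O T] (σ : ι → A →ₐ[O] A) :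
    T ⊗[O] fix σ →ₐ[T] T ⊗[O] A :=
  Algebra.TensorProduct.map (AlgHom.id T T) (fix σ).val

lemma bcVal_eq (T : Type u) [CommRing T] [Algebra O T] (σ : ι → A →ₐ[O] A) (w : T ⊗[O] fix σ) :
    bcVal T σ w = (fix σ).val.toLinearMap.lTensor T w := rfl

section split

variable {J : Type} [Fintype J] [DecidableEq J]

variable {B : Type u} [CommRing B] [Fintype ι] [DecidableEq ι] (σ : ι → (J → B) →ₐ[B] (J → B))

/-- Matrix coefficients. -/
def coef (i : ι) (k j : J) : B := σ i (Pi.single j 1) k

lemma coef_sum (i : ι) (k : J) : ∑ j, coef σ i k j = 1 := by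
  have := congrFun (map_one (σ i)) k
  rw [show (1 : J → B) = ∑ j, Pi.single j 1 from (Finset.univ_sum_single (1 : J → B)).symm, map_sum,
    Finset.sum_apply] at this
  rw [show ∑ j, coef σ i k j = ∑ j, σ i (Pi.single j 1) k from rfl, this]
  simp [Finset.sum_apply, Pi.single_apply]

lemma coef_mul (i : ι) (k j j' : J) (h : j ≠ j') : coef σ i k j * coef σ i k j' = 0 := by
  rw [coef, coef, ← Pi.mul_apply, ← map_mul]
  have : (Pi.single j 1 * Pi.single j' 1 : J → B) = 0 := funext fun l => by
    by_cases hl : l = j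
    · subst hl; simp [Pi.single_eq_of_ne h]
    · simp [Pi.single_eq_of_ne hl]
  rw [this, map_zero, Pi.zero_apply]

lemma apply_eq_sum (i : ι) (v : J → B) (k : J) : σ i v k = ∑ j, v j * coef σ i k j := by
  conv_lhs => rw [show v = ∑ j, v j • (Pi.single j (1 : B) : J → B) from funext fun l => by simp [Pi.single_apply]]
  simp [map_sum, coef]

/-- The idempotent of a pattern. -/
def idem (φ : ι → J → J) : B := ∏ i, ∏ k, coef σ i k (φ i k)

lemma idem_complete : CompleteOrthogonalIdempotents (idem σ) := by
  rw [CompleteOrthogonalIdempotents.iff_ortho_complete]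
  refine ⟨fun φ ψ hne => ?_, ?_⟩
  · obtain ⟨i, hi⟩ := Function.ne_iff.mp hne
    obtain ⟨k, hk⟩ := Function.ne_iff.mp hi
    show idem σ φ * idem σ ψ = 0
    rw [← zero_dvd_iff, ← coef_mul σ i k _ _ hk]
    exact mul_dvd_mul
      ((Finset.dvd_prod_of_mem (fun k => coef σ i k (φ i k)) (Finset.mem_univ k)).trans
        (Finset.dvd_prod_of_mem (fun i => ∏ k, coef σ i k (φ i k)) (Finset.mem_univ i)))
      ((Finset.dvd_prod_of_mem (fun k => coef σ i k (ψ i k)) (Finset.mem_univ k)).trans
        (Finset.dvd_prod_of_mem (fun i => ∏ k, coef σ i k (ψ i k)) (Finset.mem_univ i)))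
  · show ∑ φ : ι → J → J, ∏ i, ∏ k, coef σ i k (φ i k) = 1
    rw [← Fintype.prod_sum fun i (f : J → J) => ∏ k, coef σ i k (f k)]
    refine Finset.prod_eq_one fun i _ => ?_
    rw [← Fintype.prod_sum fun k j => coef σ i k j]
    exact Finset.prod_eq_one fun k _ => coef_sum σ i k

lemma coef_quot (φ : ι → J → J) (i : ι) (k j : J) :
    Ideal.Quotient.mk (Ideal.span {1 - idem σ φ}) (coef σ i k j) = if j = φ i k then 1 else 0 := by
  set π := Ideal.Quotient.mk (Ideal.span {1 - idem σ φ})
  have he : π (idem σ φ) = 1 := by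
    have h1 : π (1 - idem σ φ) = 0 := by
      rw [Ideal.Quotient.eq_zero_iff_mem]
      exact Ideal.mem_span_singleton_self _
    rw [map_sub, map_one, sub_eq_zero] at h1
    exact h1.symm
  have hd : coef σ i k (φ i k) ∣ idem σ φ :=
    (Finset.dvd_prod_of_mem (fun k => coef σ i k (φ i k)) (Finset.mem_univ k)).trans
      (Finset.dvd_prod_of_mem (fun i => ∏ k, coef σ i k (φ i k)) (Finset.mem_univ i))
  obtain ⟨c, hc⟩ := hd
  have hother : ∀ l, l ≠ φ i k → π (coef σ i k l) = 0 := fun l hl => by
    have : coef σ i k l * idem σ φ = 0 := by rw [hc, ← mul_assoc, coef_mul σ i k l _ hl, zero_mul]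
    simpa [he] using congrArg π this
  by_cases hj : j = φ i k
  · subst hj
    rw [if_pos rfl]
    have := congrArg π (coef_sum σ i k)
    rwa [map_sum, map_one, Finset.sum_eq_single (φ i k) (fun l _ hl => hother l hl) (by simp)] at this
  · rw [if_neg hj, hother j hj]

theorem etale_fix_pi : Algebra.Etale B (fix σ) := by
  classical
  let O' : ULift.{u} (Fin (Fintype.card (ι → J → J))) → Type u :=
    fun φ => B ⧸ Ideal.span {1 - idem σ ((Fintype.equivFin _).symm φ.down)}
  haveI : Module.FaithfullyFlat B ((φ : ULift.{u} (Fin (Fintype.card (ι → J → J)))) → O' φ) := by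
    let e := ((Fintype.equivFin (ι → J → J)).trans Equiv.ulift.{u}.symm)
    have hc : CompleteOrthogonalIdempotents fun φ : ULift.{u} (Fin (Fintype.card (ι → J → J))) => idem σ (e.symm φ) :=
      (CompleteOrthogonalIdempotents.equiv e.symm).mpr (idem_complete σ)
    let f : B →ₐ[B] ((φ : ULift.{u} (Fin (Fintype.card (ι → J → J)))) → O' φ) := Algebra.ofId _ _
    exact Module.FaithfullyFlat.of_linearEquiv B B
      (AlgEquiv.ofBijective f hc.bijective_pi).toLinearEquiv.symm
  refine Descent.etale_of_forall (O := O') (fix σ) fun φ => ?_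
  haveI : Module.Flat B (O' φ) := Descent.flat_component φ
  let ψ := (Fintype.equivFin (ι → J → J)).symm φ.down
  let Q := Quot fun a b : J => ∃ i, ψ i b = a
  let g : (Q → O' φ) →ₐ[O' φ] (J → O' φ) := AlgHom.ofLinearMap
    { toFun := fun v k => v (Quot.mk _ k), map_add' := fun _ _ => rfl, map_smul' := fun _ _ => rfl } rfl fun _ _ => rfl
  have hg : Function.Injective g := fun v w h => funext fun q => by
    induction q using Quot.ind with
    | mk k => exact congrFun h k
  let P := Algebra.TensorProduct.piScalarRight B (O' φ) (O' φ) J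
  let h : O' φ ⊗[B] fix σ →ₐ[O' φ] (J → O' φ) := P.toAlgHom.comp (bcVal (O' φ) σ)
  have hh : Function.Injective h := P.injective.comp (lTensor_fix_injective (O' φ) σ)
  have key : ∀ i (w : O' φ ⊗[B] (J → B)) k, P ((σ i).toLinearMap.lTensor (O' φ) w) k = P w (ψ i k) := by
    intro i w k
    induction w using TensorProduct.induction_on with
    | zero => simp
    | tmul x v =>
      simp only [P, LinearMap.lTensor_tmul, Algebra.TensorProduct.piScalarRight_tmul_apply, AlgHom.toLinearMap_apply]
      rw [apply_eq_sum σ i v k, Finset.sum_smul, Finset.sum_eq_single (ψ i k)]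
      · rw [mul_smul, Algebra.smul_def (coef σ i k _), Ideal.Quotient.algebraMap_eq, coef_quot, if_pos rfl, one_mul]
      · intro l _ hl
        rw [mul_smul, Algebra.smul_def (coef σ i k _), Ideal.Quotient.algebraMap_eq, coef_quot, if_neg hl,
          zero_mul, smul_zero]
      · simp
    | add x y hx hy => simp only [map_add, Pi.add_apply, hx, hy]
  have hrange : g.range = h.range := by
    ext w
    obtain ⟨w, rfl⟩ := P.surjective w
    constructor
    · rintro ⟨v, hv⟩
      have hw : w ∈ LinearMap.range ((fix σ).val.toLinearMap.lTensor (O' φ)) := by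
        rw [mem_range_lTensor_iff]
        intro i
        refine P.injective (funext fun k => ?_)
        rw [key, ← hv]
        exact congrArg v (Quot.sound ⟨i, rfl⟩)
      obtain ⟨z, hz⟩ := hw
      exact ⟨z, congrArg P hz⟩
    · rintro ⟨z, hz⟩
      have hz' : bcVal (O' φ) σ z = w := P.injective hz
      have hw : ∀ i, (σ i).toLinearMap.lTensor (O' φ) w = w :=
        (mem_range_lTensor_iff (O' φ) σ w).mp ⟨z, hz'⟩
      refine ⟨Quot.lift (P w) fun a b ⟨i, hi⟩ => ?_, rfl⟩
      rw [← hi, ← key, hw]
  exact Algebra.Etale.of_equiv ((AlgEquiv.ofInjective g hg).trans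
    ((Subalgebra.equivOfEq _ _ hrange).trans (AlgEquiv.ofInjective h hh).symm))

end split

/-- Fixed points of endomorphisms of an algebra that is split by a faithfully flat algebra are étale. -/
theorem etale_fix [Finite ι] (σ : ι → A →ₐ[O] A) (B : Type u) [CommRing B] [Algebra O B]
    [Module.FaithfullyFlat O B] (n : ℕ) (e : B ⊗[O] A ≃ₐ[B] (Fin n → B)) : Algebra.Etale O (fix σ) := by
  classical
  haveI := Fintype.ofFinite ι
  let σ' : ι → (Fin n → B) →ₐ[B] (Fin n → B) := fun i =>
    (e.toAlgHom.comp (Algebra.TensorProduct.map (AlgHom.id B B) (σ i))).comp e.symm.toAlgHom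
  haveI := etale_fix_pi σ'
  let h : B ⊗[O] fix σ →ₐ[B] (Fin n → B) := e.toAlgHom.comp (bcVal B σ)
  have hh : Function.Injective h := e.injective.comp (lTensor_fix_injective B σ)
  have hrange : h.range = fix σ' := by
    ext w
    obtain ⟨w, rfl⟩ := e.surjective w
    constructor
    · rintro ⟨z, hz⟩ i
      have hz' : bcVal B σ z = w := e.injective hz
      show e (Algebra.TensorProduct.map (AlgHom.id B B) (σ i) (e.symm (e w))) = e w
      rw [e.symm_apply_apply]
      exact congrArg e ((mem_range_lTensor_iff B σ w).mp ⟨z, hz'⟩ i)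
    · intro hw
      obtain ⟨z, hz⟩ : w ∈ LinearMap.range ((fix σ).val.toLinearMap.lTensor B) := by
        refine (mem_range_lTensor_iff B σ w).mpr fun i => e.injective ?_
        have h2 : e (Algebra.TensorProduct.map (AlgHom.id B B) (σ i) (e.symm (e w))) = e w := hw i
        rw [e.symm_apply_apply] at h2
        exact h2
      exact ⟨z, congrArg e hz⟩
  haveI : Algebra.Etale B (B ⊗[O] fix σ) :=
    Algebra.Etale.of_equiv ((Subalgebra.equivOfEq _ _ hrange).symm.trans (AlgEquiv.ofInjective h hh).symm)
  exact Algebra.Etale.of_etale_tensorProduct_of_faithfullyFlat B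

theorem finite_fix [IsNoetherianRing O] [Module.Finite O A] (σ : ι → A →ₐ[O] A) : Module.Finite O (fix σ) :=
  Module.Finite.of_injective (fix σ).val.toLinearMap Subtype.val_injective

/-- Two homomorphisms to a domain agreeing on invariants differ by a group element. -/
theorem exists_comp_eq {G : Type*} [Group G] [Finite G] (σ : G → A →ₐ[O] A)
    (hσ : ∀ g h a, σ g (σ h a) = σ (g * h) a) [Module.Finite O A] {K : Type*} [CommRing K] [IsDomain K]
    [Algebra O K] (φ ψ : A →ₐ[O] K) (hagree : ∀ a ∈ fix σ, φ a = ψ a) (h1 : ∀ a, σ 1 a = a) :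
    ∃ g, ψ = φ.comp (σ g) := by
  classical
  haveI := Fintype.ofFinite G
  obtain ⟨m, v, hv⟩ := Module.Finite.exists_fin (R := O) (M := A)
  let a : Polynomial A := ∑ j : Fin m, Polynomial.monomial (j : ℕ) (v j)
  let F : Polynomial (Polynomial A) :=
    ∏ g, (Polynomial.X - Polynomial.C (a.map (σ g).toRingHom))
  have hF : ∀ (k l : ℕ) (h : G), σ h ((F.coeff k).coeff l) = (F.coeff k).coeff l := by
    intro k l h
    have hmap : F.map (Polynomial.mapRingHom (σ h).toRingHom) = F := by
      simp only [F, Polynomial.map_prod, Polynomial.map_sub, Polynomial.map_X, Polynomial.map_C,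
        Polynomial.coe_mapRingHom, Polynomial.map_map]
      refine Fintype.prod_equiv (Equiv.mulLeft h) _ _ fun g => ?_
      congr 2
      refine congrArg (fun f => a.map f) (RingHom.ext fun x => ?_)
      exact hσ h g x
    conv_rhs => rw [← hmap]
    rw [Polynomial.coeff_map, Polynomial.coe_mapRingHom, Polynomial.coeff_map]
    rfl
  have heq : F.map (Polynomial.mapRingHom φ.toRingHom) = F.map (Polynomial.mapRingHom ψ.toRingHom) := by
    ext k l
    rw [Polynomial.coeff_map, Polynomial.coeff_map, Polynomial.coe_mapRingHom, Polynomial.coe_mapRingHom,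
      Polynomial.coeff_map, Polynomial.coeff_map]
    exact hagree _ (hF k l)
  have hroot : (F.map (Polynomial.mapRingHom ψ.toRingHom)).IsRoot (a.map ψ.toRingHom) := by
    simp only [F, Polynomial.map_prod, Polynomial.map_sub, Polynomial.map_X, Polynomial.map_C,
      Polynomial.coe_mapRingHom, Polynomial.IsRoot, Polynomial.eval_prod, Polynomial.eval_sub,
      Polynomial.eval_X, Polynomial.eval_C]
    refine Finset.prod_eq_zero (Finset.mem_univ (1 : G)) ?_
    rw [show (σ 1).toRingHom = RingHom.id A from RingHom.ext h1, Polynomial.map_id, sub_self]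
  rw [← heq] at hroot
  simp only [F, Polynomial.map_prod, Polynomial.map_sub, Polynomial.map_X, Polynomial.map_C,
    Polynomial.coe_mapRingHom, Polynomial.IsRoot, Polynomial.eval_prod, Polynomial.eval_sub,
    Polynomial.eval_X, Polynomial.eval_C, Finset.prod_eq_zero_iff, Finset.mem_univ, true_and, sub_eq_zero] at hroot
  obtain ⟨g, hg⟩ := hroot
  refine ⟨g, AlgHom.toLinearMap_injective (LinearMap.ext_on hv ?_)⟩
  rintro _ ⟨j, rfl⟩
  have hc : a.coeff (j : ℕ) = v j := by
    simp [a, Polynomial.finsetSum_coeff, Polynomial.coeff_monomial, Fin.val_inj]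
  have := congrArg (fun P => P.coeff (j : ℕ)) hg
  simp only [Polynomial.coeff_map, hc] at this
  exact this

end Groth.Agent.SchFinLib.Fix
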