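import Groth.Agent.SchFinLib.Affine
import Groth.Agent.SchFinLib.Fix
import Groth.Agent.WLocalLib.EtaleProd
import Groth.Prelude.Def_SchFin2

/-!
Quasi-coherent algebras: universal property of the restriction maps, and constructions.
-/

set_option autoImplicit false
set_option linter.style.haveILetI false
set_option linter.unusedSectionVars false
set_option backward.isDefEq.respectTransparency false

open TensorProduct CategoryTheory

namespace Groth.Agent.SchFinLib

open SchFin

universe u

/-- Ring homomorphism out of a tensor product. -/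
noncomputable def tensorLift {A B C T : Type*} [CommRing A] [CommRing B] [CommRing C] [CommRing T]
    [Algebra A B] [Algebra A C] (g₁ : B →+* T) (g₂ : C →+* T)
    (h : ∀ a, g₁ (algebraMap A B a) = g₂ (algebraMap A C a)) : B ⊗[A] C →+* T :=
  letI : Algebra A T := (g₁.comp (algebraMap A B)).toAlgebra
  (Algebra.TensorProduct.lift { g₁ with commutes' := fun _ => rfl } { g₂ with commutes' := fun a => (h a).symm }
    (fun _ _ => Commute.all _ _) : B ⊗[A] C →ₐ[A] T).toRingHom

@[simp]
lemma tensorLift_tmul {A B C T : Type*} [CommRing A] [CommRing B] [CommRing C] [CommRing T]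
    [Algebra A B] [Algebra A C] (g₁ : B →+* T) (g₂ : C →+* T)
    (h : ∀ a, g₁ (algebraMap A B a) = g₂ (algebraMap A C a)) (b : B) (c : C) :
    tensorLift g₁ g₂ h (b ⊗ₜ c) = g₁ b * g₂ c := rfl

lemma tmul_algebraMap {A B C : Type*} [CommRing A] [CommRing B] [CommRing C]
    [Algebra A B] [Algebra A C] (a : A) :
    algebraMap A B a ⊗ₜ[A] (1 : C) = (1 : B) ⊗ₜ[A] algebraMap A C a := by
  rw [Algebra.algebraMap_eq_smul_one, Algebra.algebraMap_eq_smul_one, TensorProduct.smul_tmul]

lemma tensor_ringHom_ext {A B C T : Type*} [CommRing A] [CommRing B] [CommRing C] [CommRing T]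
    [Algebra A B] [Algebra A C] {f g : B ⊗[A] C →+* T} (h₁ : ∀ b, f (b ⊗ₜ 1) = g (b ⊗ₜ 1))
    (h₂ : ∀ c, f (1 ⊗ₜ c) = g (1 ⊗ₜ c)) : f = g := by
  refine RingHom.ext fun w => ?_
  induction w using TensorProduct.induction_on with
  | zero => simp
  | tmul b c =>
    rw [show (b ⊗ₜ[A] c : B ⊗[A] C) = (b ⊗ₜ 1) * (1 ⊗ₜ c) by
      rw [Algebra.TensorProduct.tmul_mul_tmul, mul_one, one_mul], map_mul, map_mul, h₁, h₂]
  | add x y hx hy => rw [map_add, map_add, hx, hy]

variable {X : RSpace.{u}}

namespace QAlg

variable (A : Alg X) {p q : X.pt}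

/-- The comparison map of a restriction. -/
noncomputable def bc (h : p ≤ q) :
    letI := (X.res h).toAlgebra; X.ring q ⊗[X.ring p] A.carrier p →+* A.carrier q :=
  letI := (X.res h).toAlgebra
  tensorLift (algebraMap (X.ring q) (A.carrier q)) (A.res h) fun a => (A.res_algebraMap h a).symm

lemma bc_eq (h : p ≤ q) :
    (bc A h : _ → _) = bcLift (X.res h) (A.toMod.res h) := by
  letI := (X.res h).toAlgebra
  funext w
  induction w using TensorProduct.induction_on with
  | zero => simp
  | tmul t m =>
    rw [bc, tensorLift_tmul, bcLift_tmul]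
    exact (Algebra.smul_def (A := A.carrier q) t _).symm
  | add x y hx hy => rw [map_add, map_add, hx, hy]

theorem isQcoh_iff : A.IsQcoh ↔ ∀ (p q : X.pt) (h : p ≤ q), Function.Bijective (bc A h) := by
  refine forall₃_congr fun p q h => ?_
  rw [bc_eq, isBCAlong_iff]

variable {A}

/-- Ring homomorphisms out of the value at a larger point are determined by the scalars and the restriction. -/
theorem hom_ext (hA : A.IsQcoh) (h : p ≤ q) {T : Type*} [CommRing T] {f g : A.carrier q →+* T}
    (h₁ : ∀ o, f (algebraMap (X.ring q) (A.carrier q) o) = g (algebraMap (X.ring q) (A.carrier q) o))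
    (h₂ : ∀ a, f (A.res h a) = g (A.res h a)) : f = g := by
  letI := (X.res h).toAlgebra
  have := tensor_ringHom_ext (f := f.comp (bc A h)) (g := g.comp (bc A h))
    (fun b => by simpa [bc] using h₁ b) (fun c => by simpa [bc] using h₂ c)
  refine RingHom.ext fun x => ?_
  obtain ⟨w, rfl⟩ := ((isQcoh_iff A).mp hA p q h).2 x
  exact RingHom.congr_fun this w

/-- The universal property of the restriction. -/
theorem exists_lift (hA : A.IsQcoh) (h : p ≤ q) {T : Type*} [CommRing T] (φ : X.ring q →+* T)
    (ψ : A.carrier p →+* T) (hc : ∀ a, φ (X.res h a) = ψ (algebraMap (X.ring p) (A.carrier p) a)) :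
    ∃ g : A.carrier q →+* T, (∀ o, g (algebraMap (X.ring q) (A.carrier q) o) = φ o) ∧
      ∀ a, g (A.res h a) = ψ a := by
  letI := (X.res h).toAlgebra
  let e := RingEquiv.ofBijective (bc A h) ((isQcoh_iff A).mp hA p q h)
  refine ⟨(tensorLift φ ψ hc).comp e.symm.toRingHom, fun o => ?_, fun a => ?_⟩
  · have : e.symm (algebraMap (X.ring q) (A.carrier q) o) = o ⊗ₜ 1 := by
      rw [RingEquiv.symm_apply_eq]; simp [e, bc]
    simp [this]
  · have : e.symm (A.res h a) = 1 ⊗ₜ a := by
      rw [RingEquiv.symm_apply_eq]; simp [e, bc]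
    simp [this]

variable (A)

/-- An algebra with the universal property is quasi-coherent. -/
theorem isQcoh_of_universal
    (H : ∀ (p q : X.pt) (h : p ≤ q) (T : Type u) [CommRing T],
      (∀ (φ : X.ring q →+* T) (ψ : A.carrier p →+* T),
        (∀ a, φ (X.res h a) = ψ (algebraMap (X.ring p) (A.carrier p) a)) →
        ∃ g : A.carrier q →+* T, (∀ o, g (algebraMap (X.ring q) (A.carrier q) o) = φ o) ∧
          ∀ a, g (A.res h a) = ψ a) ∧
      ∀ f g : A.carrier q →+* T,
        (∀ o, f (algebraMap (X.ring q) (A.carrier q) o) = g (algebraMap (X.ring q) (A.carrier q) o)) →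
        (∀ a, f (A.res h a) = g (A.res h a)) → f = g) : A.IsQcoh := by
  rw [isQcoh_iff]
  intro p q h
  letI := (X.res h).toAlgebra
  obtain ⟨g, hg₁, hg₂⟩ := (H p q h (X.ring q ⊗[X.ring p] A.carrier p)).1
    (Algebra.TensorProduct.includeLeftRingHom)
    (Algebra.TensorProduct.includeRight (R := X.ring p) (A := X.ring q) (B := A.carrier p)).toRingHom
    (fun a => (Algebra.TensorProduct.includeRight (R := X.ring p) (A := X.ring q) (B := A.carrier p)).commutes a |>.symm)
  refine Function.bijective_iff_has_inverse.mpr ⟨g, fun w => ?_, fun x => ?_⟩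
  · refine RingHom.congr_fun (tensor_ringHom_ext (f := g.comp (bc A h)) (g := RingHom.id _) (fun b => ?_) fun c => ?_) w
    · simp [bc, hg₁]
    · simp [bc, hg₂]
  · refine RingHom.congr_fun ((H p q h (A.carrier q)).2 ((bc A h).comp g) (RingHom.id _) (fun o => ?_) fun a => ?_) x
    · simp [bc, hg₁]
    · simp [bc, hg₂]

/-- The rings themselves form an étale cover. -/
theorem isEtCover_str (X : RSpace.{u}) : (Alg.str X).IsEtCover := by
  refine ⟨isQcoh_of_universal _ fun p q h T _ => ⟨fun φ ψ hc => ⟨φ, fun o => rfl, hc⟩, fun f g hf _ => RingHom.ext hf⟩,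
    fun p => ⟨Module.Finite.self (X.ring p), inferInstanceAs (Algebra.Etale (X.ring p) (X.ring p))⟩⟩

/-- The zero algebra. -/
noncomputable def zeroAlg (X : RSpace.{u}) : Alg X where
  carrier _ := PUnit.{u + 1}
  res _ := RingHom.id _
  res_algebraMap _ _ := rfl
  res_self _ _ := rfl
  res_comp _ _ _ := rfl

theorem isEtCover_zeroAlg (X : RSpace.{u}) : (zeroAlg X).IsEtCover := by
  refine ⟨(isQcoh_iff _).mpr fun p q h => ?_, fun p => ?_⟩
  · letI := (X.res h).toAlgebra
    haveI : Subsingleton ((zeroAlg X).carrier p) := inferInstanceAs (Subsingleton PUnit.{u + 1})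
    exact ⟨fun a b _ => Subsingleton.elim a b, fun y => ⟨0, Subsingleton.elim (α := PUnit.{u + 1}) _ y⟩⟩
  · haveI : Subsingleton ((zeroAlg X).carrier p) := inferInstanceAs (Subsingleton PUnit.{u + 1})
    exact ⟨inferInstance, EtAlg.etale_subsingleton _⟩

/-- Product of two algebras. -/
noncomputable def prod (A B : Alg X) : Alg X where
  carrier p := A.carrier p × B.carrier p
  res h := (A.res h).prodMap (B.res h)
  res_algebraMap h a := Prod.ext (A.res_algebraMap h a) (B.res_algebraMap h a)
  res_self p b := Prod.ext (A.res_self p b.1) (B.res_self p b.2)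
  res_comp h h' b := Prod.ext (A.res_comp h h' b.1) (B.res_comp h h' b.2)

theorem isQcoh_prod {A B : Alg X} (hA : A.IsQcoh) (hB : B.IsQcoh) : (prod A B).IsQcoh := by
  refine (isQcoh_iff _).mpr fun p q h => ?_
  letI := (X.res h).toAlgebra
  let e := TensorProduct.prodRight (X.ring p) (X.ring p) (X.ring q) (A.carrier p) (B.carrier p)
  have : (bc (prod A B) h : _ → _) = Prod.map (bc A h) (bc B h) ∘ e := by
    funext w
    induction w using TensorProduct.induction_on with
    | zero => rw [Function.comp_apply, map_zero, map_zero]; exact Prod.ext (map_zero _).symm (map_zero _).symm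
    | tmul t m => rfl
    | add x y hx hy =>
      rw [map_add, Function.comp_apply, map_add, hx, hy]
      exact Prod.ext (map_add _ _ _).symm (map_add _ _ _).symm
  rw [this]
  exact (Function.Bijective.prodMap ((isQcoh_iff A).mp hA p q h) ((isQcoh_iff B).mp hB p q h)).comp e.bijective

theorem isEtCover_prod {A B : Alg X} (hA : A.IsEtCover) (hB : B.IsEtCover) : (prod A B).IsEtCover := by
  refine ⟨isQcoh_prod hA.1 hB.1, fun p => ?_⟩
  haveI := (hA.2 p).1; haveI := (hA.2 p).2; haveI := (hB.2 p).1; haveI := (hB.2 p).2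
  exact ⟨Module.Finite.prod, WLocalLib.etale_prod⟩

/-- Quotient by compatible elements. -/
noncomputable def quot (A : Alg X) (r : ∀ p, A.carrier p) (hr : ∀ (p q : X.pt) (h : p ≤ q), A.res h (r p) = r q) :
    Alg X where
  carrier p := A.carrier p ⧸ Ideal.span {r p}
  res {p q} h := Ideal.quotientMap _ (A.res h) (Ideal.span_le.mpr fun x hx => by
    rw [Set.mem_singleton_iff] at hx
    subst hx
    show A.res h (r p) ∈ Ideal.span {r q}
    rw [hr p q h]
    exact Ideal.mem_span_singleton_self _)
  res_algebraMap h a := congrArg (Ideal.Quotient.mk _) (A.res_algebraMap h a)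
  res_self p b := by
    obtain ⟨b, rfl⟩ := Ideal.Quotient.mk_surjective b
    exact congrArg (Ideal.Quotient.mk _) (A.res_self p b)
  res_comp h h' b := by
    obtain ⟨b, rfl⟩ := Ideal.Quotient.mk_surjective b
    exact congrArg (Ideal.Quotient.mk _) (A.res_comp h h' b)

theorem isQcoh_quot {A : Alg X} (hA : A.IsQcoh) (r : ∀ p, A.carrier p)
    (hr : ∀ (p q : X.pt) (h : p ≤ q), A.res h (r p) = r q) : (quot A r hr).IsQcoh := by
  refine isQcoh_of_universal _ fun p q h T _ => ⟨fun φ ψ hc => ?_, fun f g hf hg => ?_⟩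
  · obtain ⟨g, hg₁, hg₂⟩ := exists_lift hA h φ (ψ.comp (Ideal.Quotient.mk _)) hc
    refine ⟨Ideal.Quotient.lift _ g ?_, hg₁, fun a => ?_⟩
    · intro x hx
      obtain ⟨c, rfl⟩ := Ideal.mem_span_singleton'.mp hx
      rw [map_mul, ← hr p q h, hg₂]
      exact mul_eq_zero_of_right _ ((congrArg ψ
        (Ideal.Quotient.eq_zero_iff_mem.mpr (Ideal.mem_span_singleton_self (r p)))).trans (map_zero ψ))
    · obtain ⟨a, rfl⟩ := Ideal.Quotient.mk_surjective a
      exact hg₂ a
  · exact Ideal.Quotient.ringHom_ext (hom_ext hA h hf fun a => hg (Ideal.Quotient.mk _ a))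

theorem isEtCover_quot {A : Alg X} (hA : A.IsEtCover) (r : ∀ p, A.carrier p) (hr₁ : ∀ p, r p * r p = r p)
    (hr : ∀ (p q : X.pt) (h : p ≤ q), A.res h (r p) = r q) : (quot A r hr).IsEtCover := by
  refine ⟨isQcoh_quot hA.1 r hr, fun p => ?_⟩
  haveI := (hA.2 p).1; haveI := (hA.2 p).2
  exact ⟨Module.Finite.of_surjective (Ideal.Quotient.mkₐ (X.ring p) _).toLinearMap Ideal.Quotient.mk_surjective,
    EtAlg.etale_quotient_idempotent (hr₁ p)⟩

section pushout

variable {A B C : Alg X} (f : A ⟶ B) (g : A ⟶ C)

/-- Pushout of algebras. -/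
noncomputable def pushout : Alg X where
  carrier p := letI := (f.app p).toRingHom.toAlgebra; letI := (g.app p).toRingHom.toAlgebra
    B.carrier p ⊗[A.carrier p] C.carrier p
  instRing p := letI := (f.app p).toRingHom.toAlgebra; letI := (g.app p).toRingHom.toAlgebra; inferInstance
  instAlg p := letI := (f.app p).toRingHom.toAlgebra; letI := (g.app p).toRingHom.toAlgebra
    haveI : IsScalarTower (X.ring p) (A.carrier p) (B.carrier p) :=
      IsScalarTower.of_algebraMap_eq fun x => ((f.app p).commutes x).symm
    Algebra.TensorProduct.leftAlgebra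
  res {p q} h := by
    letI := (f.app p).toRingHom.toAlgebra; letI := (g.app p).toRingHom.toAlgebra
    letI := (f.app q).toRingHom.toAlgebra; letI := (g.app q).toRingHom.toAlgebra
    refine tensorLift (Algebra.TensorProduct.includeLeftRingHom.comp (B.res h))
      ((Algebra.TensorProduct.includeRight (R := A.carrier q)).toRingHom.comp (C.res h)) fun a => ?_
    show B.res h (f.app p a) ⊗ₜ[A.carrier q] (1 : C.carrier q) = (1 : B.carrier q) ⊗ₜ[A.carrier q] C.res h (g.app p a)
    rw [f.compat, g.compat]
    exact tmul_algebraMap (A.res h a)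
  res_algebraMap {p q} h a := by
    letI := (f.app p).toRingHom.toAlgebra; letI := (g.app p).toRingHom.toAlgebra
    letI := (f.app q).toRingHom.toAlgebra; letI := (g.app q).toRingHom.toAlgebra
    show B.res h (algebraMap _ _ a) ⊗ₜ[A.carrier q] (1 : C.carrier q) * (1 : B.carrier q) ⊗ₜ[A.carrier q] C.res h 1 = _
    rw [B.res_algebraMap, map_one, Algebra.TensorProduct.tmul_mul_tmul, mul_one, one_mul]
    rfl
  res_self p b := by
    letI := (f.app p).toRingHom.toAlgebra; letI := (g.app p).toRingHom.toAlgebra
    refine RingHom.congr_fun (tensor_ringHom_ext (g := RingHom.id _) (fun x => ?_) fun x => ?_) b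
    · simp [B.res_self]
    · simp [C.res_self]
  res_comp {p q s} h h' b := by
    letI := (f.app p).toRingHom.toAlgebra; letI := (g.app p).toRingHom.toAlgebra
    letI := (f.app q).toRingHom.toAlgebra; letI := (g.app q).toRingHom.toAlgebra
    letI := (f.app s).toRingHom.toAlgebra; letI := (g.app s).toRingHom.toAlgebra
    induction b using TensorProduct.induction_on with
    | zero => simp only [map_zero]
    | tmul x y => simp [B.res_comp, C.res_comp]
    | add x y hx hy => simp only [map_add, hx, hy]

/-- The left leg of the pushout. -/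
noncomputable def inl : B ⟶ pushout f g where
  app p := letI := (f.app p).toRingHom.toAlgebra; letI := (g.app p).toRingHom.toAlgebra
    { (Algebra.TensorProduct.includeLeftRingHom : B.carrier p →+* B.carrier p ⊗[A.carrier p] C.carrier p) with
      commutes' := fun _ => rfl }
  compat {p q} h b := by
    letI := (f.app p).toRingHom.toAlgebra; letI := (g.app p).toRingHom.toAlgebra
    letI := (f.app q).toRingHom.toAlgebra; letI := (g.app q).toRingHom.toAlgebra
    show B.res h b ⊗ₜ[A.carrier q] (1 : C.carrier q) * (1 : B.carrier q) ⊗ₜ[A.carrier q] C.res h 1 = _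
    rw [map_one, Algebra.TensorProduct.tmul_mul_tmul, mul_one, one_mul]
    rfl

/-- The right leg of the pushout. -/
noncomputable def inr : C ⟶ pushout f g where
  app p := letI := (f.app p).toRingHom.toAlgebra; letI := (g.app p).toRingHom.toAlgebra
    { (Algebra.TensorProduct.includeRight (R := A.carrier p) (A := B.carrier p) (B := C.carrier p)).toRingHom with
      commutes' := fun x => by
        show (1 : B.carrier p) ⊗ₜ[A.carrier p] algebraMap _ _ x = algebraMap _ (B.carrier p) x ⊗ₜ[A.carrier p] 1
        rw [← (g.app p).commutes x, ← (f.app p).commutes x]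
        exact (tmul_algebraMap _).symm }
  compat {p q} h b := by
    letI := (f.app p).toRingHom.toAlgebra; letI := (g.app p).toRingHom.toAlgebra
    letI := (f.app q).toRingHom.toAlgebra; letI := (g.app q).toRingHom.toAlgebra
    show B.res h 1 ⊗ₜ[A.carrier q] (1 : C.carrier q) * (1 : B.carrier q) ⊗ₜ[A.carrier q] C.res h b = _
    rw [map_one, Algebra.TensorProduct.tmul_mul_tmul, mul_one, one_mul]
    rfl

lemma pushout_hom_ext {p : X.pt} {T : Type*} [CommRing T] {F G : (pushout f g).carrier p →+* T}
    (h₁ : ∀ b, F ((inl f g).app p b) = G ((inl f g).app p b))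
    (h₂ : ∀ c, F ((inr f g).app p c) = G ((inr f g).app p c)) : F = G :=
  letI := (f.app p).toRingHom.toAlgebra; letI := (g.app p).toRingHom.toAlgebra
  tensor_ringHom_ext h₁ h₂

lemma exists_pushout_lift {p : X.pt} {T : Type*} [CommRing T] (F : B.carrier p →+* T) (G : C.carrier p →+* T)
    (h : ∀ a, F (f.app p a) = G (g.app p a)) :
    ∃ L : (pushout f g).carrier p →+* T, (∀ b, L ((inl f g).app p b) = F b) ∧
      ∀ c, L ((inr f g).app p c) = G c :=
  letI := (f.app p).toRingHom.toAlgebra; letI := (g.app p).toRingHom.toAlgebra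
  ⟨tensorLift F G h, fun b => by show F b * G 1 = F b; rw [map_one, mul_one],
    fun c => by show F 1 * G c = G c; rw [map_one, one_mul]⟩

theorem isQcoh_pushout (hA : A.IsQcoh) (hB : B.IsQcoh) (hC : C.IsQcoh) : (pushout f g).IsQcoh := by
  refine isQcoh_of_universal _ fun p q h T _ => ⟨fun φ ψ hc => ?_, fun F G hF hG => ?_⟩
  · obtain ⟨gB, hB₁, hB₂⟩ := exists_lift hB h φ (ψ.comp ((inl f g).app p).toRingHom)
      (fun a => (hc a).trans (congrArg ψ (((inl f g).app p).commutes a).symm))
    obtain ⟨gC, hC₁, hC₂⟩ := exists_lift hC h φ (ψ.comp ((inr f g).app p).toRingHom)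
      (fun a => (hc a).trans (congrArg ψ (((inr f g).app p).commutes a).symm))
    have hagree : gB.comp (f.app q).toRingHom = gC.comp (g.app q).toRingHom := by
      refine hom_ext hA h (fun o => ?_) fun a => ?_
      · show gB (f.app q _) = gC (g.app q _)
        rw [(f.app q).commutes, (g.app q).commutes, hB₁, hC₁]
      · show gB (f.app q _) = gC (g.app q _)
        rw [← f.compat, ← g.compat, hB₂, hC₂]
        show ψ ((inl f g).app p (f.app p a)) = ψ ((inr f g).app p (g.app p a))
        letI := (f.app p).toRingHom.toAlgebra; letI := (g.app p).toRingHom.toAlgebra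
        exact congrArg ψ (tmul_algebraMap a)
    obtain ⟨L, hL₁, hL₂⟩ := exists_pushout_lift f g gB gC (RingHom.congr_fun hagree)
    refine ⟨L, fun o => ?_, fun a => ?_⟩
    · rw [← ((inl f g).app q).commutes o, hL₁, hB₁]
    · refine RingHom.congr_fun (pushout_hom_ext f g (F := L.comp ((pushout f g).res h)) (fun b => ?_) fun c => ?_) a
      · show L ((pushout f g).res h ((inl f g).app p b)) = _
        rw [(inl f g).compat, hL₁, hB₂]; rfl
      · show L ((pushout f g).res h ((inr f g).app p c)) = _
        rw [(inr f g).compat, hL₂, hC₂]; rfl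
  · refine pushout_hom_ext f g (fun b => ?_) fun c => ?_
    · refine RingHom.congr_fun (hom_ext hB h (f := F.comp ((inl f g).app q).toRingHom)
        (g := G.comp ((inl f g).app q).toRingHom) (fun o => ?_) fun a => ?_) b
      · show F ((inl f g).app q _) = G ((inl f g).app q _)
        rw [((inl f g).app q).commutes, hF]
      · show F ((inl f g).app q _) = G ((inl f g).app q _)
        rw [← (inl f g).compat, hG]
    · refine RingHom.congr_fun (hom_ext hC h (f := F.comp ((inr f g).app q).toRingHom)
        (g := G.comp ((inr f g).app q).toRingHom) (fun o => ?_) fun a => ?_) c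
      · show F ((inr f g).app q _) = G ((inr f g).app q _)
        rw [((inr f g).app q).commutes, hF]
      · show F ((inr f g).app q _) = G ((inr f g).app q _)
        rw [← (inr f g).compat, hG]

theorem isEtCover_pushout (hA : A.IsEtCover) (hB : B.IsEtCover) (hC : C.IsEtCover) : (pushout f g).IsEtCover := by
  refine ⟨isQcoh_pushout f g hA.1 hB.1 hC.1, fun p => ?_⟩
  letI := (f.app p).toRingHom.toAlgebra; letI := (g.app p).toRingHom.toAlgebra
  haveI : IsScalarTower (X.ring p) (A.carrier p) (B.carrier p) :=
    IsScalarTower.of_algebraMap_eq fun x => ((f.app p).commutes x).symm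
  haveI : IsScalarTower (X.ring p) (A.carrier p) (C.carrier p) :=
    IsScalarTower.of_algebraMap_eq fun x => ((g.app p).commutes x).symm
  haveI := (hA.2 p).1; haveI := (hA.2 p).2; haveI := (hB.2 p).1; haveI := (hB.2 p).2
  haveI := (hC.2 p).1; haveI := (hC.2 p).2
  exact ⟨EtAlg.finite_tensor, EtAlg.etale_tensor⟩

end pushout

section fixed

variable {ι : Type*} (A : Alg X) (σ : ι → (A ⟶ A))

/-- The algebra fixed by a family of endomorphisms. -/
noncomputable def fixed : Alg X where
  carrier p := Fix.fix (fun i => (σ i).app p)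
  instRing p := inferInstance
  instAlg p := inferInstance
  res {p q} h := ((A.res h).comp (Fix.fix (fun i => (σ i).app p)).val.toRingHom).codRestrict
    (Fix.fix (fun i => (σ i).app q)) fun x i => by
      show (σ i).app q (A.res h x.1) = A.res h x.1
      rw [← (σ i).compat, x.2 i]
  res_algebraMap h a := Subtype.ext (A.res_algebraMap h a)
  res_self p b := Subtype.ext (A.res_self p b.1)
  res_comp h h' b := Subtype.ext (A.res_comp h h' b.1)

theorem isQcoh_fixed [Finite ι] (hX : ∀ (p q : X.pt) (h : p ≤ q), (X.res h).Flat) (hA : A.IsQcoh) :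
    (fixed A σ).IsQcoh := by
  refine (isQcoh_iff _).mpr fun p q h => ?_
  letI := (X.res h).toAlgebra
  haveI : Module.Flat (X.ring p) (X.ring q) := hX p q h
  have hb := (isQcoh_iff A).mp hA p q h
  let L := (Fix.fix (fun i => (σ i).app p)).val.toLinearMap.lTensor (X.ring q)
  have key : ∀ w, ((bc (fixed A σ) h w : (fixed A σ).carrier q).1 : A.carrier q) = bc A h (L w) := fun w => by
    induction w using TensorProduct.induction_on with
    | zero => simp only [map_zero]; rfl
    | tmul t m => rfl
    | add x y hx hy => simp only [map_add, ← hx, ← hy]; rfl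
  refine ⟨fun v w hvw => Fix.lTensor_fix_injective (X.ring q) _ (hb.1 ?_), fun y => ?_⟩
  · rw [← key, ← key, hvw]
  · obtain ⟨w, hw⟩ := hb.2 y.1
    have hw' : ∀ i, ((σ i).app p).toLinearMap.lTensor (X.ring q) w = w := fun i => hb.1 <| by
      have : ∀ v, bc A h (((σ i).app p).toLinearMap.lTensor (X.ring q) v) = (σ i).app q (bc A h v) := fun v => by
        induction v using TensorProduct.induction_on with
        | zero => simp
        | tmul t m =>
          simp only [bc, LinearMap.lTensor_tmul, tensorLift_tmul, map_mul, AlgHom.commutes, AlgHom.toLinearMap_apply]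
          rw [(σ i).compat]
        | add x y hx hy => simp only [map_add, hx, hy]
      rw [this, hw]
      exact y.2 i
    obtain ⟨z, hz⟩ := (Fix.mem_range_lTensor_iff (X.ring q) _ w).mpr hw'
    exact ⟨z, Subtype.ext (by rw [key]; exact (congrArg (bc A h) hz).trans hw)⟩

/-- The inclusion of the fixed algebra. -/
noncomputable def fixedIncl : fixed A σ ⟶ A where
  app p := (Fix.fix (fun i => (σ i).app p)).val
  compat _ _ := rfl

theorem isEtCover_fixed [Finite ι] (hX : X.IsFinSp) (hA : A.IsEtCover)
    (hlt : ∀ p : X.pt, ∃ (B : Type u) (_ : CommRing B) (_ : Algebra (X.ring p) B) (n : ℕ),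
      Module.FaithfullyFlat (X.ring p) B ∧ Nonempty (B ⊗[X.ring p] A.carrier p ≃ₐ[B] (Fin n → B))) :
    (fixed A σ).IsEtCover := by
  refine ⟨isQcoh_fixed A σ hX.2 hA.1, fun p => ?_⟩
  obtain ⟨B, _, _, n, _, ⟨e⟩⟩ := hlt p
  haveI := hX.1 p
  haveI := (hA.2 p).1
  exact ⟨Fix.finite_fix _, Fix.etale_fix _ B n e⟩

end fixed

end QAlg

end Groth.Agent.SchFinLib
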